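import Cfsg.Agent.ClassCount.Pi

/-!
Tools for the theorem on groups with many classes of `π`-elements: `π`-parts of orders, invariance
of the class numbers under isomorphisms, and bounds on the number of classes of `p`-elements
coming from fusion.
-/

set_option autoImplicit false

namespace Cfsg.Agent.PiClasses

open Subgroup ClassCount

universe u v

section PiPart

theorem factorization_piPart_aux (π : Finset ℕ) (hπ : ∀ r ∈ π, r.Prime) (e : ℕ → ℕ) (r : ℕ) :
    (π.prod fun s => s ^ e s).factorization r = if r ∈ π then e r else 0 := by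
  rw [Nat.factorization_prod (fun s hs => pow_ne_zero _ (hπ s hs).ne_zero), Finsupp.finsetSum_apply]
  by_cases hr : r ∈ π
  · rw [if_pos hr, Finset.sum_eq_single r]
    · rw [Nat.Prime.factorization_pow (hπ r hr), Finsupp.single_eq_same]
    · intro s hs hsr
      rw [Nat.Prime.factorization_pow (hπ s hs), Finsupp.single_eq_of_ne (Ne.symm hsr)]
    · exact fun h => absurd hr h
  · rw [if_neg hr]
    refine Finset.sum_eq_zero fun s hs => ?_
    rw [Nat.Prime.factorization_pow (hπ s hs), Finsupp.single_eq_of_ne]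
    exact fun h => hr (h ▸ hs)

variable {G : Type u} [Group G] [Finite G]

theorem piPart_pos (π : Finset ℕ) (hπ : ∀ r ∈ π, r.Prime) : 0 < piPart π G :=
  Finset.prod_pos fun r hr => pow_pos (hπ r hr).pos _

theorem factorization_piPart (π : Finset ℕ) (hπ : ∀ r ∈ π, r.Prime) (r : ℕ) :
    (piPart π G).factorization r = if r ∈ π then (Nat.card G).factorization r else 0 :=
  factorization_piPart_aux π hπ _ r

/-- Recognition of the `π`-part. -/
theorem eq_piPart (π : Finset ℕ) (hπ : ∀ r ∈ π, r.Prime) {d : ℕ} (hd : d ∣ Nat.card G)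
    (h1 : ∀ r : ℕ, r.Prime → r ∣ d → r ∈ π) (h2 : ∀ r ∈ π, ¬ r ∣ Nat.card G / d) :
    d = piPart π G := by
  have hd0 : d ≠ 0 := fun h => Nat.card_pos.ne' (Nat.eq_zero_of_zero_dvd (h ▸ hd))
  refine Nat.eq_of_factorization_eq hd0 (piPart_pos π hπ).ne' fun r => ?_
  rw [factorization_piPart π hπ]
  split_ifs with hr
  · have h := Nat.factorization_eq_zero_of_not_dvd (h2 r hr)
    rw [Nat.factorization_div hd, Finsupp.tsub_apply] at h
    have hle := (Nat.factorization_le_iff_dvd hd0 Nat.card_pos.ne').2 hd r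
    omega
  · by_cases hrp : r.Prime
    · exact Nat.factorization_eq_zero_of_not_dvd fun h => hr (h1 r hrp h)
    · exact Nat.factorization_eq_zero_of_not_prime _ hrp

theorem piPart_dvd (π : Finset ℕ) (hπ : ∀ r ∈ π, r.Prime) : piPart π G ∣ Nat.card G := by
  rw [← Nat.factorization_le_iff_dvd (piPart_pos π hπ).ne' Nat.card_pos.ne', Finsupp.le_def]
  intro r
  rw [factorization_piPart π hπ]
  split_ifs <;> simp

theorem prime_of_dvd_piPart (π : Finset ℕ) (hπ : ∀ r ∈ π, r.Prime) {r : ℕ} (hr : r.Prime)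
    (h : r ∣ piPart π G) : r ∈ π := by
  by_contra hn
  have := hr.factorization_pos_of_dvd (piPart_pos π hπ).ne' h
  rw [factorization_piPart π hπ, if_neg hn] at this
  exact lt_irrefl 0 this

theorem not_dvd_card_div_piPart (π : Finset ℕ) (hπ : ∀ r ∈ π, r.Prime) {r : ℕ} (hr : r ∈ π) :
    ¬ r ∣ Nat.card G / piPart π G := by
  intro h
  have hd : Nat.card G / piPart π G ≠ 0 :=
    (Nat.div_pos (Nat.le_of_dvd Nat.card_pos (piPart_dvd π hπ)) (piPart_pos π hπ)).ne'
  have h1 := (hπ r hr).factorization_pos_of_dvd hd h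
  rw [Nat.factorization_div (piPart_dvd π hπ), Finsupp.tsub_apply, factorization_piPart π hπ,
    if_pos hr] at h1
  omega

theorem piPart_mul (π : Finset ℕ) {r : ℕ} (hr : r ∈ π) :
    piPart π G = r ^ (Nat.card G).factorization r * piPart (π.erase r) G :=
  (Finset.mul_prod_erase π (fun s => s ^ (Nat.card G).factorization s) hr).symm

theorem piPart_subgroup_dvd (π : Finset ℕ) (D : Subgroup G) : piPart π D ∣ piPart π G :=
  Finset.prod_dvd_prod_of_dvd _ _ fun r _ => Nat.pow_dvd_pow r
    ((Nat.factorization_le_iff_dvd Nat.card_pos.ne' Nat.card_pos.ne').mpr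
      (Subgroup.card_subgroup_dvd_card D) r)

/-- A proper divisor of the `π`-part is at most its `p`-th part, if all primes in `π` are `≥ p`. -/
theorem mul_le_of_ne (π : Finset ℕ) (hπ : ∀ r ∈ π, r.Prime) {p d : ℕ} (hp : ∀ r ∈ π, p ≤ r)
    (hd : d ∣ piPart π G) (hne : d ≠ piPart π G) : p * d ≤ piPart π G := by
  obtain ⟨e, he⟩ := hd
  have he1 : e ≠ 1 := fun h => hne (by rw [he, h, mul_one])
  obtain ⟨r, hr, hre⟩ := Nat.exists_prime_and_dvd he1
  have hrπ := prime_of_dvd_piPart π hπ hr (he ▸ Dvd.dvd.mul_left hre d)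
  have he0 : 0 < e := Nat.pos_of_ne_zero fun h => by
    have := piPart_pos π hπ (G := G); rw [he, h, mul_zero] at this; omega
  calc p * d ≤ e * d := Nat.mul_le_mul_right _ ((hp r hrπ).trans (Nat.le_of_dvd he0 hre))
    _ = piPart π G := by rw [he, mul_comm]

/-- A subgroup of full `π`-part order is a Hall subgroup. -/
theorem coprime_index (π : Finset ℕ) (hπ : ∀ r ∈ π, r.Prime) {K : Subgroup G}
    (hK : Nat.card K = piPart π G) : (Nat.card K).Coprime K.index := by
  refine Nat.coprime_of_dvd fun r hr h1 h2 => ?_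
  refine not_dvd_card_div_piPart π hπ (prime_of_dvd_piPart π hπ hr (hK ▸ h1)) (G := G) ?_
  rwa [← hK, ← K.card_mul_index, Nat.mul_div_cancel_left _ Nat.card_pos]

end PiPart

section Congr

variable {G : Type u} [Group G] {G' : Type v} [Group G']

/-- A multiplicative equivalence as a bijection of the class sets cut out by a condition on orders. -/
theorem card_classes_congr (e : G ≃* G') (P : ℕ → Prop) :
    Nat.card {c : ConjClasses G // ∀ x ∈ c.carrier, P (orderOf x)} =
      Nat.card {c : ConjClasses G' // ∀ x ∈ c.carrier, P (orderOf x)} := by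
  have hconj : ∀ (f : G →* G') (a b : G), IsConj a b → IsConj (f a) (f b) := fun f a b h =>
    f.map_isConj h
  let φ : ConjClasses G ≃ ConjClasses G' :=
    { toFun := ConjClasses.map e.toMonoidHom
      invFun := ConjClasses.map e.symm.toMonoidHom
      left_inv := fun c => by
        obtain ⟨g, rfl⟩ := ConjClasses.exists_rep c
        exact congrArg ConjClasses.mk (e.symm_apply_apply g)
      right_inv := fun c => by
        obtain ⟨g, rfl⟩ := ConjClasses.exists_rep c
        exact congrArg ConjClasses.mk (e.apply_symm_apply g) }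
  refine Nat.card_congr (φ.subtypeEquiv fun c => ?_)
  obtain ⟨g, rfl⟩ := ConjClasses.exists_rep c
  show _ ↔ ∀ x ∈ (ConjClasses.mk (e g)).carrier, P (orderOf x)
  rw [forall_carrier_mk_order (q := P), forall_carrier_mk_order (q := P), MulEquiv.orderOf_eq]

theorem kP_congr (e : G ≃* G') (p : ℕ) : kP p G = kP p G' :=
  card_classes_congr e fun n => ∃ k : ℕ, n = p ^ k

theorem kPi_congr (e : G ≃* G') (π : Finset ℕ) : kPi π G = kPi π G' :=
  card_classes_congr e fun n => ∀ r : ℕ, r.Prime → r ∣ n → r ∈ π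

/-- Centralizers of conjugate elements are isomorphic. -/
noncomputable def centralizerEquiv {x y g : G} (h : g * x * g⁻¹ = y) :
    centralizer ({x} : Set G) ≃* centralizer ({y} : Set G) where
  toFun a := ⟨g * a * g⁻¹, by
    have ha := mem_centralizer_singleton_iff.1 a.2
    rw [mem_centralizer_singleton_iff, ← h]
    calc g * a * g⁻¹ * (g * x * g⁻¹) = g * ((a : G) * x) * g⁻¹ := by group
      _ = g * (x * a) * g⁻¹ := by rw [ha]
      _ = g * x * g⁻¹ * (g * a * g⁻¹) := by group⟩
  invFun a := ⟨g⁻¹ * a * g, by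
    have ha := mem_centralizer_singleton_iff.1 a.2
    rw [mem_centralizer_singleton_iff]
    replace ha : (a : G) * (g * x * g⁻¹) = g * x * g⁻¹ * a := by rw [h]; exact ha
    calc g⁻¹ * a * g * x = g⁻¹ * ((a : G) * (g * x * g⁻¹)) * g := by group
      _ = g⁻¹ * (g * x * g⁻¹ * a) * g := by rw [ha]
      _ = x * (g⁻¹ * a * g) := by group⟩
  left_inv a := Subtype.ext (by group)
  right_inv a := Subtype.ext (by group)
  map_mul' a b := Subtype.ext (by simp [mul_assoc])

end Congr

section Fusion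

variable {G : Type u} [Group G] [Finite G]

/-- An element of `q`-power order normalizing a subgroup and moving an element of it gives at least
`q` conjugates there. -/
theorem le_card_conj {q k : ℕ} [hq : Fact q.Prime] (R : Subgroup G) {y x : G}
    (hy : y ∈ normalizer (R : Set G)) (hyo : orderOf y = q ^ k) (hx : x ∈ R)
    (hne : ¬ Commute y x) : q ≤ Nat.card {z : R // IsConj x (z : G)} := by
  have hmem : ∀ i : ℕ, y ^ i * x * (y ^ i)⁻¹ ∈ R := fun i =>
    (mem_normalizer_iff.1 (pow_mem hy i) x).1 hx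
  have key : ∀ i j : ℕ, i < j → j < q → y ^ i * x * (y ^ i)⁻¹ ≠ y ^ j * x * (y ^ j)⁻¹ := by
    intro i j hij hjq he
    obtain ⟨d, rfl⟩ : ∃ d, j = i + d := ⟨j - i, by omega⟩
    have hc : Commute (y ^ d) x := by
      have h1 : x = y ^ d * x * (y ^ d)⁻¹ :=
        calc x = (y ^ i)⁻¹ * (y ^ i * x * (y ^ i)⁻¹) * y ^ i := by group
          _ = (y ^ i)⁻¹ * (y ^ (i + d) * x * (y ^ (i + d))⁻¹) * y ^ i := by rw [he]
          _ = y ^ d * x * (y ^ d)⁻¹ := by rw [pow_add]; group
      exact (eq_mul_inv_iff_mul_eq.1 h1).symm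
    have hco : d.Coprime (orderOf y) := by
      rw [hyo]
      refine Nat.Coprime.pow_right _ (hq.out.coprime_iff_not_dvd.2 fun h => ?_).symm
      exact absurd (Nat.le_of_dvd (by omega) h) (by omega)
    obtain ⟨m, hm⟩ := exists_pow_eq_self_of_coprime hco
    exact hne (hm ▸ hc.pow_left m)
  let f : Fin q → {z : R // IsConj x (z : G)} := fun i =>
    ⟨⟨y ^ (i : ℕ) * x * (y ^ (i : ℕ))⁻¹, hmem i⟩, isConj_iff.2 ⟨y ^ (i : ℕ), rfl⟩⟩
  have hf : Function.Injective f := by
    intro i j he
    have he' : y ^ (i : ℕ) * x * (y ^ (i : ℕ))⁻¹ = y ^ (j : ℕ) * x * (y ^ (j : ℕ))⁻¹ :=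
      congrArg (fun z => ((z.1 : R) : G)) he
    rcases lt_trichotomy (i : ℕ) j with h | h | h
    · exact absurd he' (key i j h j.2)
    · exact Fin.ext h
    · exact absurd he'.symm (key j i h i.2)
  simpa using Nat.card_le_card_of_injective f hf

/-- The fixed points of a coprime `q`-element acting nontrivially on a group have index `≥ q + 1`. -/
theorem succ_mul_card_fixed_le {q k : ℕ} [hq : Fact q.Prime] (R : Subgroup G) {y : G}
    (hy : y ∈ normalizer (R : Set G)) (hyo : orderOf y = q ^ k) (hcop : ¬ q ∣ Nat.card R)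
    (hne : ¬ R ≤ centralizer ({y} : Set G)) :
    (q + 1) * Nat.card (R ⊓ centralizer ({y} : Set G) : Subgroup G) ≤ Nat.card R := by
  classical
  set C := R ⊓ centralizer ({y} : Set G)
  have hA : IsPGroup q (zpowers y) := IsPGroup.of_card (by rw [Nat.card_zpowers, hyo])
  have hle : zpowers y ≤ normalizer (R : Set G) := zpowers_le.2 hy
  let act : MulAction (zpowers y) R :=
    { smul := fun a r => ⟨(a : G) * r * (a : G)⁻¹, (mem_normalizer_iff.1 (hle a.2) r).1 r.2⟩
      one_smul := fun r => Subtype.ext (by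
        show ((1 : zpowers y) : G) * r * ((1 : zpowers y) : G)⁻¹ = r; simp)
      mul_smul := fun a b r => Subtype.ext (by
        show ((a * b : zpowers y) : G) * r * ((a * b : zpowers y) : G)⁻¹ =
          (a : G) * ((b : G) * r * (b : G)⁻¹) * (a : G)⁻¹
        simp [mul_assoc]) }
  have hmod := @IsPGroup.card_modEq_card_fixedPoints q (zpowers y) _ hA _ R act _
  have hfix : Nat.card (MulAction.fixedPoints (zpowers y) R) = Nat.card C := by
    refine Nat.card_congr
      { toFun := fun r => ⟨(r.1 : G), r.1.2, ?_⟩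
        invFun := fun c => ⟨⟨(c : G), c.2.1⟩, ?_⟩
        left_inv := fun r => rfl
        right_inv := fun c => rfl }
    · have h := congrArg Subtype.val (r.2 ⟨y, mem_zpowers y⟩)
      exact mem_centralizer_singleton_iff.2 (mul_inv_eq_iff_eq_mul.1 h).symm
    · intro a
      apply Subtype.ext
      show (a : G) * (c : G) * (a : G)⁻¹ = c
      obtain ⟨n, hn⟩ := mem_zpowers_iff.1 a.2
      have hc : Commute y (c : G) := (mem_centralizer_singleton_iff.1 c.2.2).symm
      rw [← hn, (hc.zpow_left n).eq, mul_inv_cancel_right]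
  rw [hfix] at hmod
  obtain ⟨i, hi⟩ : Nat.card C ∣ Nat.card R := card_dvd_of_le inf_le_left
  have hi0 : i ≠ 0 := fun h => Nat.card_pos.ne' (hi.trans (by rw [h, mul_zero]))
  have hi1 : i ≠ 1 := fun h => hne (fun r hr => by
    have he : C = R := eq_of_le_of_card_ge inf_le_left (by rw [hi, h, mul_one])
    exact (he.symm ▸ hr : r ∈ C).2)
  have hdvd : q ∣ Nat.card C * (i - 1) := by
    have h := (Nat.modEq_iff_dvd' (hi ▸ Nat.le_mul_of_pos_right _ (Nat.pos_of_ne_zero hi0))).1
      hmod.symm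
    rwa [Nat.mul_sub, mul_one, ← hi]
  rcases hq.out.dvd_mul.1 hdvd with h | h
  · exact absurd (h.trans (card_dvd_of_le inf_le_left)) hcop
  · have := Nat.le_of_dvd (by omega) h
    rw [hi, mul_comm]
    exact Nat.mul_le_mul_left _ (by omega)

/-- Fusion by a coprime element of prime power order. -/
theorem kP_fused {r q k : ℕ} [Fact r.Prime] [hq : Fact q.Prime] (hrq : q ≠ r) (P : Sylow r G)
    {y : G} (hy : y ∈ normalizer ((P : Subgroup G) : Set G)) (hyo : orderOf y = q ^ k)
    (hne : ¬ (P : Subgroup G) ≤ centralizer ({y} : Set G)) :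
    (q + 1) * kP r G ≤ 2 * Nat.card (P : Subgroup G) := by
  have hcop : ¬ q ∣ Nat.card (P : Subgroup G) := by
    obtain ⟨n, hn⟩ := IsPGroup.iff_card.1 P.2
    rw [hn]
    exact fun h => hrq ((Nat.prime_dvd_prime_iff_eq hq.out Fact.out).1 (hq.out.dvd_of_dvd_pow h))
  set S := (P : Subgroup G) ⊓ centralizer ({y} : Set G)
  have hk := mul_kP_le P S inf_le_left q fun x hx hxS =>
    le_card_conj _ hy hyo hx fun hc => hxS ⟨hx, mem_centralizer_singleton_iff.2 hc.eq.symm⟩
  have hS := succ_mul_card_fixed_le _ hy hyo hcop hne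
  have hq2 : 2 ≤ q := hq.out.two_le
  obtain ⟨q', rfl⟩ : ∃ q', q = q' + 2 := ⟨q - 2, by omega⟩
  simp only [show q' + 2 - 1 = q' + 1 by omega] at hk
  set K := kP r G
  set n := Nat.card (P : Subgroup G)
  set s := Nat.card S
  refine Nat.le_of_mul_le_mul_left ?_ (show 0 < q' + 2 by omega)
  nlinarith [Nat.mul_le_mul_left (q' + 2 + 1) hk, Nat.mul_le_mul_left (q' + 1) hS]

/-- Fusion by any element of the normalizer not centralizing the Sylow subgroup. -/
theorem kP_fused_two {r : ℕ} [hr : Fact r.Prime] (P : Sylow r G)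
    (hne : ¬ normalizer ((P : Subgroup G) : Set G) ≤ centralizer ((P : Subgroup G) : Set G)) :
    2 * r * kP r G ≤ (r + 1) * Nat.card (P : Subgroup G) := by
  obtain ⟨g, hg, hgc⟩ := SetLike.not_le_iff_exists.1 hne
  set S := (P : Subgroup G) ⊓ centralizer ({g} : Set G) with hS
  have hfib : ∀ x ∈ (P : Subgroup G), x ∉ S →
      2 ≤ Nat.card {y : (P : Subgroup G) // IsConj x (y : G)} := by
    intro x hx hxS
    have hgx : g * x * g⁻¹ ∈ (P : Subgroup G) := (mem_normalizer_iff.mp hg x).mp hx
    have hnt : Nontrivial {y : (P : Subgroup G) // IsConj x (y : G)} :=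
      ⟨⟨⟨x, hx⟩, IsConj.refl x⟩, ⟨⟨g * x * g⁻¹, hgx⟩, isConj_iff.mpr ⟨g, rfl⟩⟩, fun he => by
        have he' : x = g * x * g⁻¹ := congrArg (fun y => ((y.1 : (P : Subgroup G)) : G)) he
        exact hxS ⟨hx, mem_centralizer_singleton_iff.2 (eq_mul_inv_iff_mul_eq.mp he')⟩⟩
    exact Finite.one_lt_card_iff_nontrivial.mpr hnt
  have hk := mul_kP_le P S inf_le_left 2 hfib
  simp only [show (2 : ℕ) - 1 = 1 from rfl, one_mul] at hk
  have hlt : S ≠ (P : Subgroup G) := fun he => hgc (mem_centralizer_iff.2 fun x hx =>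
    mem_centralizer_singleton_iff.1 (he.symm ▸ hx : x ∈ S).2)
  obtain ⟨j, hj⟩ := P.2.index (S.subgroupOf (P : Subgroup G))
  have hmulc := Subgroup.card_mul_index (S.subgroupOf (P : Subgroup G))
  rw [hj, Nat.card_congr (Subgroup.subgroupOfEquivOfLe (show S ≤ P from inf_le_left)).toEquiv] at hmulc
  have hj1 : 1 ≤ j := by
    rcases Nat.eq_zero_or_pos j with rfl | hj0
    · exact absurd (le_antisymm inf_le_left (Subgroup.subgroupOf_eq_top.mp
        (Subgroup.index_eq_one.mp (hj.trans (pow_zero r))))) hlt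
    · exact hj0
  have hle : Nat.card S * r ≤ Nat.card (P : Subgroup G) :=
    hmulc ▸ Nat.mul_le_mul_left _ (Nat.le_self_pow (by omega) r)
  nlinarith [Nat.mul_le_mul_left r hk]

/-- A non-abelian Sylow subgroup gives few classes. -/
theorem kP_nonabelian {r : ℕ} [hr : Fact r.Prime] (P : Sylow r G)
    (hna : ¬ IsMulCommutative (P : Subgroup G)) :
    r ^ 3 * kP r G ≤ Nat.card (P : Subgroup G) * (r ^ 2 + r - 1) := by
  let Z : Subgroup G := (center (P : Subgroup G)).map (P : Subgroup G).subtype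
  have hZle : Z ≤ (P : Subgroup G) := map_subtype_le _
  have hZcard : Nat.card Z = Nat.card (center (P : Subgroup G)) :=
    card_map_of_injective (subtype_injective _)
  have hfib : ∀ x ∈ (P : Subgroup G), x ∉ Z →
      r ≤ Nat.card {y : (P : Subgroup G) // IsConj x (y : G)} := by
    intro x hx hxZ
    have hxc : (⟨x, hx⟩ : (P : Subgroup G)) ∉ center (P : Subgroup G) :=
      fun hc => hxZ ⟨_, hc, rfl⟩
    obtain ⟨y, hy⟩ := not_forall.1 (mem_center_iff.not.1 hxc)
    obtain ⟨k, hk⟩ := IsPGroup.iff_orderOf.mp P.2 y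
    refine le_card_conj (q := r) (k := k) _ (le_normalizer y.2) ?_ hx fun hc =>
      hy (Subtype.ext hc.eq)
    rwa [Subgroup.orderOf_coe]
  have hk := mul_kP_le P Z hZle r hfib
  obtain ⟨j, hj⟩ := P.2.index (center (P : Subgroup G))
  have hmulc := card_mul_index (center (P : Subgroup G))
  rw [hj, ← hZcard] at hmulc
  have hj2 : 2 ≤ j := by
    by_contra hlt
    apply hna
    have hcyc : IsCyclic ((P : Subgroup G) ⧸ center (P : Subgroup G)) := by
      have hc : Nat.card ((P : Subgroup G) ⧸ center (P : Subgroup G)) = r ^ j := hj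
      rcases (show j = 0 ∨ j = 1 by omega) with rfl | rfl
      · have := (Nat.card_eq_one_iff_unique.mp (hc.trans (pow_zero r))).1
        infer_instance
      · exact isCyclic_of_prime_card (hc.trans (pow_one r))
    exact MonoidHom.isMulCommutative_of_isCyclic_of_ker_le_center
      (QuotientGroup.mk' (center _)) (QuotientGroup.ker_mk' _).le
  have hle : Nat.card Z * r ^ 2 ≤ Nat.card (P : Subgroup G) :=
    hmulc ▸ Nat.mul_le_mul_left _ (Nat.pow_le_pow_right hr.out.pos hj2)
  have hr2 := hr.out.two_le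
  obtain ⟨r', rfl⟩ : ∃ r', r = r' + 2 := ⟨r - 2, by omega⟩
  simp only [show r' + 2 - 1 = r' + 1 by omega] at hk
  rw [show (r' + 2) ^ 2 + (r' + 2) - 1 = (r' + 2) ^ 2 + (r' + 1) by omega]
  nlinarith [Nat.mul_le_mul_left ((r' + 2) ^ 2) hk, Nat.mul_le_mul_left (r' + 1) hle]

/-- `k_π` through a single prime. -/
theorem kPi_le_kP_piPart (π : Finset ℕ) (hπ : ∀ r ∈ π, r.Prime) (r : ℕ) (hr : r.Prime) :
    kPi π G ≤ kP r G * piPart (π.erase r) G :=
  kPi_le_kP_mul π hπ r hr fun H =>
    kPi_le_piPart (π.erase r) (fun s hs => hπ s (Finset.mem_of_mem_erase hs)) ↥H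

end Fusion

end Cfsg.Agent.PiClasses
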