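import Cfsg.Agent.PiClasses.Basic
import Cfsg.Agent.Char.Linear
import Cfsg.Agent.Char.Integral
import Cfsg.Agent.Core.WielandtHall

/-!
Nilpotent groups with many conjugacy classes have small derived subgroup.
-/

set_option autoImplicit false

namespace Cfsg.Agent.PiClasses

open Subgroup ClassCount
open scoped Pointwise

universe u

section PGroup

variable {P : Type u} [Group P] [Finite P]

/-- In a `p`-group with more than `|P| / p` classes the derived subgroup has order at most `p`. -/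
theorem commutator_le_of_pgroup {p : ℕ} [hp : Fact p.Prime] (hP : IsPGroup p P)
    (hk : Nat.card P < p * Nat.card (ConjClasses P)) : Nat.card (commutator P) ≤ p := by
  classical
  by_contra hlt
  push Not at hlt
  obtain ⟨n, hn⟩ := IsPGroup.iff_card.1 hP
  obtain ⟨j, hj, hjc⟩ := (Nat.dvd_prime_pow hp.out).1 (hn ▸ (commutator P).card_subgroup_dvd_card)
  have hj2 : 2 ≤ j := by
    by_contra h
    have : p ^ j ≤ p ^ 1 := Nat.pow_le_pow_right hp.out.pos (by omega)
    rw [pow_one] at this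
    omega
  have hsq : p ^ 2 ≤ Nat.card (commutator P) := hjc ▸ Nat.pow_le_pow_right hp.out.pos hj2
  set L := (commutator P).index with hL
  have hmul := (commutator P).card_mul_index
  -- degrees
  have hdeg : ∀ χ : Cfsg.IrrCharacter P, ∃ d : ℕ, (χ : P → ℂ) 1 = d ∧
      (d = 1 ∨ p ≤ d) := by
    intro χ
    obtain ⟨d, -, hd⟩ := Cfsg.Agent.Char.IsIrr.degree χ.2
    refine ⟨d, hd, ?_⟩
    obtain ⟨i, -, hi⟩ := (Nat.dvd_prime_pow hp.out).1
      (hn ▸ Cfsg.Agent.Char.IsIrr.degree_dvd_card χ.2 hd)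
    rcases Nat.eq_zero_or_pos i with rfl | hi0
    · exact Or.inl (by rw [hi, pow_zero])
    · exact Or.inr (hi ▸ Nat.le_self_pow hi0.ne' p)
  choose d hd hd' using hdeg
  have hsum : ∑ χ, d χ ^ 2 = Nat.card P := by
    have h := Cfsg.Agent.Char.sum_sq_degree (G := P)
    simp only [hd] at h
    exact_mod_cast h
  have hlin : (Finset.univ.filter fun χ => d χ = 1).card = L := by
    rw [hL, ← Cfsg.Agent.Char.card_linear, Nat.card_eq_fintype_card, Fintype.card_subtype]
    congr 1
    ext χ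
    simp [hd]
  have hsplit : L + p ^ 2 * (Nat.card (ConjClasses P) - L) ≤ Nat.card P := by
    rw [← hsum, ← Finset.sum_filter_add_sum_filter_not Finset.univ (fun χ => d χ = 1)]
    refine Nat.add_le_add (le_of_eq ?_) ?_
    · rw [Finset.sum_congr rfl (fun χ hχ => by rw [(Finset.mem_filter.1 hχ).2, one_pow]),
        Finset.sum_const, smul_eq_mul, mul_one, hlin]
    · refine le_trans ?_ (Finset.sum_le_sum (f := fun _ => p ^ 2) fun χ hχ =>
        Nat.pow_le_pow_left ((hd' χ).resolve_left (Finset.mem_filter.1 hχ).2) 2)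
      rw [Finset.sum_const, smul_eq_mul, mul_comm]
      refine Nat.mul_le_mul_right _ (le_of_eq ?_)
      rw [Finset.filter_not, Finset.card_sdiff_of_subset (Finset.filter_subset _ _), hlin,
        Finset.card_univ, ← Nat.card_eq_fintype_card, Cfsg.Agent.Char.card_irrCharacter]
  have hkL : L ≤ Nat.card (ConjClasses P) := by
    rw [← Cfsg.Agent.Char.card_irrCharacter, ← hlin, Nat.card_eq_fintype_card]
    exact Finset.card_le_univ _
  have hp2 := hp.out.two_le
  obtain ⟨e, he⟩ : ∃ e, Nat.card (ConjClasses P) = L + e := ⟨_, (Nat.add_sub_cancel' hkL).symm⟩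
  rw [he, Nat.add_sub_cancel_left] at hsplit
  rw [he] at hk
  have h1 : p ^ 2 * L ≤ Nat.card P := by
    rw [← hmul]
    exact Nat.mul_le_mul_right _ hsq
  have h2 : p * (p * (L + e)) ≤ p * Nat.card P := by
    calc p * (p * (L + e)) = p ^ 2 * L + p ^ 2 * e := by ring
      _ ≤ Nat.card P + Nat.card P := Nat.add_le_add h1 (le_trans (Nat.le_add_left _ _) hsplit)
      _ ≤ p * Nat.card P := by rw [← two_mul]; exact Nat.mul_le_mul_right _ hp2
  exact absurd (Nat.le_of_mul_le_mul_left h2 hp.out.pos) (not_le.2 hk)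

end PGroup

variable {G : Type u} [Group G] [Finite G]

/-- With a nilpotent Hall `π`-subgroup, `k_π(G)` is at most its class number. -/
theorem kPi_le_card_classes (π : Finset ℕ) (hπ : ∀ r ∈ π, r.Prime) (H : Subgroup G)
    (hH : Group.IsNilpotent H) (hHc : Nat.card H = piPart π G) :
    kPi π G ≤ Nat.card (ConjClasses H) := by
  classical
  let f : ConjClasses H → ConjClasses G := ConjClasses.map H.subtype
  have hsur : ∀ c : {c : ConjClasses G // ∀ x ∈ c.carrier, IsPiElt π x}, ∃ b, f b = c.1 := by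
    rintro ⟨c, hc⟩
    obtain ⟨g, rfl⟩ := ConjClasses.exists_rep c
    obtain ⟨y, hy⟩ := Core.exists_le_conj_nilpotent_hall hH (coprime_index π hπ hHc)
      (K := zpowers g) (Nat.coprime_of_dvd fun r hr h1 h2 => by
        rw [Nat.card_zpowers] at h1
        refine not_dvd_card_div_piPart π hπ (hc g ConjClasses.mem_carrier_mk r hr h1) (G := G) ?_
        rwa [← hHc, ← H.card_mul_index, Nat.mul_div_cancel_left _ Nat.card_pos])
    have hm := hy (mem_zpowers g)
    rw [Subgroup.mem_pointwise_smul_iff_inv_smul_mem] at hm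
    refine ⟨ConjClasses.mk ⟨_, hm⟩, ?_⟩
    show ConjClasses.mk _ = ConjClasses.mk g
    rw [ConjClasses.mk_eq_mk_iff_isConj, isConj_iff]
    exact ⟨y, by simp [mul_assoc]⟩
  choose b hb using hsur
  exact Nat.card_le_card_of_injective b fun c c' h => Subtype.ext (by rw [← hb c, ← hb c', h])

variable {p : ℕ}

/-- Many classes in a group give many classes of `r`-elements. -/
theorem kP_large (A B : ℕ) (hk : B * Nat.card G < A * Nat.card (ConjClasses G)) {r : ℕ}
    [hr : Fact r.Prime] (hrd : r ∣ Nat.card G) (R : Sylow r G) :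
    B * Nat.card (R : Subgroup G) < A * kP r G := by
  classical
  set π := (Nat.card G).primeFactors
  have hπ : ∀ s ∈ π, s.Prime := fun s hs => Nat.prime_of_mem_primeFactors hs
  have hrπ : r ∈ π := Nat.mem_primeFactors.2 ⟨hr.out, hrd, Nat.card_pos.ne'⟩
  have hall : piPart π G = Nat.card G := by
    refine (eq_piPart π hπ dvd_rfl (fun s hs hd => Nat.mem_primeFactors.2 ⟨hs, hd, Nat.card_pos.ne'⟩)
      fun s hs h => (hπ s hs).not_dvd_one ?_).symm
    rwa [Nat.div_self Nat.card_pos] at h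
  have hkall : kPi π G = Nat.card (ConjClasses G) := by
    refine Nat.card_congr (Equiv.subtypeUnivEquiv fun c x _ s hs hd => ?_)
    exact Nat.mem_primeFactors.2 ⟨hs, hd.trans (orderOf_dvd_natCard x), Nat.card_pos.ne'⟩
  have h1 := kPi_le_kP_piPart (G := G) π hπ r hr.out
  rw [hkall] at h1
  rw [← hall, piPart_mul π hrπ, ← R.card_eq_multiplicity, ← mul_assoc] at hk
  have h2 := lt_of_lt_of_le hk (Nat.mul_le_mul_left A h1)
  rw [← mul_assoc] at h2
  exact Nat.lt_of_mul_lt_mul_right h2

theorem kP_le_card_classes {r : ℕ} [Fact r.Prime] (R : Sylow r G) :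
    kP r G ≤ Nat.card (ConjClasses (R : Subgroup G)) := by
  classical
  have hsur : ∀ c : {c : ConjClasses G // ∀ x ∈ c.carrier, ∃ k : ℕ, orderOf x = r ^ k},
      ∃ b : ConjClasses (R : Subgroup G), ConjClasses.map (R : Subgroup G).subtype b = c.1 := by
    rintro ⟨c, hc⟩
    obtain ⟨g, rfl⟩ := ConjClasses.exists_rep c
    obtain ⟨z, hz, hgz⟩ := exists_mem_sylow_isConj R g (hc g ConjClasses.mem_carrier_mk)
    exact ⟨ConjClasses.mk ⟨z, hz⟩, ConjClasses.mk_eq_mk_iff_isConj.2 hgz.symm⟩
  choose b hb using hsur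
  exact Nat.card_le_card_of_injective b fun c c' h => Subtype.ext (by rw [← hb c, ← hb c', h])

theorem eq_one_of_comm_sylow (hn : ∀ {r : ℕ} [Fact r.Prime] (R : Sylow r G), R.Normal) {c : G}
    (hc : c ∈ commutator G) (P : Sylow p G) (hp : p ∈ (Nat.card G).primeFactors)
    (hab : ∀ r : ℕ, r ≠ p → r ∈ (Nat.card G).primeFactors →
      ∀ R : Sylow r G, IsMulCommutative (R : Subgroup G))
    (h1 : ((Sylow.directProductOfNormal (G := G) hn).symm c ⟨p, hp⟩ P) = 1) : c = 1 := by
  have := Fact.mk (Nat.prime_of_mem_primeFactors hp)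
  set e := Sylow.directProductOfNormal (G := G) hn
  refine e.symm.injective ?_
  rw [map_one]
  funext r R
  show e.symm c r R = 1
  by_cases hr : r = ⟨p, hp⟩
  · subst hr
    have hP := Sylow.unique_of_normal P (hn P)
    have : R = P := Subsingleton.elim _ _
    subst this
    exact h1
  · have hR := hab r.1 (fun h => hr (Subtype.ext h)) r.2 R
    let f : G →* ↥(R : Subgroup G) :=
      ((Pi.evalMonoidHom (fun Q : Sylow r.1 G => ↥(Q : Subgroup G)) R).comp
        (Pi.evalMonoidHom (fun s : (Nat.card G).primeFactors => ∀ Q : Sylow s.1 G, ↥(Q : Subgroup G)) r)).comp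
        e.symm.toMonoidHom
    have hle : (commutator G).map f ≤ ⊥ := by
      rw [commutator_def, map_commutator, le_bot_iff, commutator_eq_bot_iff_le_centralizer]
      exact fun a _ => mem_centralizer_iff.2 fun b _ => hR.is_comm.comm b a
    exact mem_bot.1 (hle ⟨c, hc, rfl⟩)

/-- A nilpotent group with more than `|G| / p` classes, `p` at most every prime divisor, has derived
subgroup of order at most `p`. -/
theorem card_commutator_le (hG : Group.IsNilpotent G) (hp2 : 2 ≤ p)
    (hp : ∀ r : ℕ, r.Prime → r ∣ Nat.card G → p ≤ r)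
    (hk : Nat.card G < p * Nat.card (ConjClasses G)) : Nat.card (commutator G) ≤ p := by
  classical
  have htfae := (Group.isNilpotent_of_finite_tfae (G := G)).out 0 3
  have hn : ∀ {r : ℕ} [Fact r.Prime] (R : Sylow r G), R.Normal := fun {r} hr R => htfae.1 hG r hr R
  have hk1 : ∀ {r : ℕ} [Fact r.Prime], r ∣ Nat.card G → ∀ R : Sylow r G,
      Nat.card (R : Subgroup G) < p * kP r G := fun hrd R => by
    simpa using kP_large p 1 (by simpa using hk) hrd R
  have hbig : ∀ r : ℕ, r ≠ p → r ∈ (Nat.card G).primeFactors →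
      ∀ R : Sylow r G, IsMulCommutative (R : Subgroup G) := by
    intro r hrp hr R
    by_contra hna
    have := Fact.mk (Nat.prime_of_mem_primeFactors hr)
    have h1 := kP_nonabelian R hna
    have h2 := hk1 (Nat.dvd_of_mem_primeFactors hr) R
    have hpr := hp r Fact.out (Nat.dvd_of_mem_primeFactors hr)
    have hr2 : r ^ 2 + r - 1 + 1 = r ^ 2 + r := Nat.sub_add_cancel (by nlinarith)
    set n := Nat.card (R : Subgroup G)
    set K := kP r G
    set w := r ^ 2 + r - 1
    have hw : p * w ≤ r ^ 3 := by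
      obtain ⟨d, rfl⟩ : ∃ d, r = p + 1 + d := ⟨r - p - 1, by omega⟩
      nlinarith
    have h3 : r ^ 3 * (p * K) ≤ r ^ 3 * n :=
      calc r ^ 3 * (p * K) = p * (r ^ 3 * K) := by ring
        _ ≤ p * (n * w) := Nat.mul_le_mul_left _ h1
        _ = n * (p * w) := by ring
        _ ≤ n * r ^ 3 := Nat.mul_le_mul_left _ hw
        _ = r ^ 3 * n := mul_comm _ _
    exact absurd (Nat.le_of_mul_le_mul_left h3 (pow_pos (Fact.out : r.Prime).pos 3)) (not_le.2 h2)
  by_cases hpm : p ∈ (Nat.card G).primeFactors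
  · have := Fact.mk (Nat.prime_of_mem_primeFactors hpm)
    obtain ⟨P⟩ : Nonempty (Sylow p G) := inferInstance
    set e := Sylow.directProductOfNormal (G := G) hn
    let f : G →* ↥(P : Subgroup G) :=
      ((Pi.evalMonoidHom (fun Q : Sylow p G => ↥(Q : Subgroup G)) P).comp
        (Pi.evalMonoidHom (fun s : (Nat.card G).primeFactors => ∀ Q : Sylow s.1 G, ↥(Q : Subgroup G))
          ⟨p, hpm⟩)).comp e.symm.toMonoidHom
    have hle : (commutator G).map f ≤ commutator ↥(P : Subgroup G) := by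
      rw [commutator_def, commutator_def, map_commutator]
      exact commutator_mono le_top le_top
    refine le_trans ?_ (commutator_le_of_pgroup P.2
      ((hk1 (Nat.dvd_of_mem_primeFactors hpm) P).trans_le
        (Nat.mul_le_mul_left p (kP_le_card_classes P))))
    refine Nat.card_le_card_of_injective
      (fun c : commutator G => (⟨f c, hle ⟨c, c.2, rfl⟩⟩ : commutator ↥(P : Subgroup G)))
      fun a b hab => ?_
    have h1 : f ((a : G)⁻¹ * b) = 1 := by
      rw [map_mul, map_inv, show f a = f b from congrArg Subtype.val hab, inv_mul_cancel]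
    have h2 := eq_one_of_comm_sylow hn (mul_mem (inv_mem a.2) b.2) P hpm hbig h1
    exact Subtype.ext (inv_mul_eq_one.1 h2)
  · -- all Sylow subgroups are abelian
    have hall : commutator G = ⊥ := by
      rw [commutator_eq_bot_iff]
      let e := Sylow.directProductOfNormal (G := G) hn
      refine ⟨⟨fun a b => e.symm.injective ?_⟩⟩
      rw [map_mul, map_mul]
      funext r R
      exact (hbig r.1 (fun h => hpm (h ▸ r.2)) r.2 R).is_comm.comm _ _
    rw [hall, card_bot]
    omega

/-- A nilpotent group with more than `(p² + p - 1) / p³ · |G|` classes is abelian. -/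
theorem isMulCommutative_of_many (hG : Group.IsNilpotent G) (hp2 : 2 ≤ p)
    (hp : ∀ r : ℕ, r.Prime → r ∣ Nat.card G → p ≤ r)
    (hk : Nat.card G * (p ^ 2 + p - 1) < p ^ 3 * Nat.card (ConjClasses G)) : IsMulCommutative G := by
  classical
  have htfae := (Group.isNilpotent_of_finite_tfae (G := G)).out 0 3
  have hn : ∀ {r : ℕ} [Fact r.Prime] (R : Sylow r G), R.Normal := fun {r} hr R => htfae.1 hG r hr R
  let e := Sylow.directProductOfNormal (G := G) hn
  refine ⟨⟨fun a b => e.symm.injective ?_⟩⟩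
  rw [map_mul, map_mul]
  funext r R
  suffices h : IsMulCommutative (R : Subgroup G) from h.is_comm.comm _ _
  by_contra hna
  have := Fact.mk (Nat.prime_of_mem_primeFactors r.2)
  have hrd := Nat.dvd_of_mem_primeFactors r.2
  have h1 := kP_nonabelian R hna
  have h2 := kP_large (p ^ 3) (p ^ 2 + p - 1) (by rwa [mul_comm] at hk) hrd R
  have hpr := hp r.1 Fact.out hrd
  set n := Nat.card (R : Subgroup G)
  set K := kP r.1 G
  set x := r.1 with hx
  have ha : x ^ 2 + x - 1 + 1 = x ^ 2 + x := Nat.sub_add_cancel (by nlinarith)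
  have hb : p ^ 2 + p - 1 + 1 = p ^ 2 + p := Nat.sub_add_cancel (by nlinarith)
  set w := x ^ 2 + x - 1
  set v := p ^ 2 + p - 1
  have hw : p ^ 3 * w ≤ x ^ 3 * v := by
    obtain ⟨d, hd⟩ : ∃ d, x = p + d := ⟨x - p, by omega⟩
    have hx2 : 2 * (x * x) ≤ x * x * p := by nlinarith
    have hp2' : 2 * (p * p) ≤ x * p * p := by nlinarith
    have key : x * x + x * p + p * p ≤ x * x * p + x * p * p := by nlinarith [sq_nonneg ((x : ℤ) - p)]
    have k1 := Nat.mul_le_mul_left d key
    have k2 := congrArg (p ^ 3 * ·) ha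
    have k3 := congrArg (x ^ 3 * ·) hb
    have k4 : 0 ≤ d * x ^ 2 * p ^ 2 := Nat.zero_le _
    simp only [hd] at k1 k2 k3 k4 ⊢
    nlinarith
  have h3 : x ^ 3 * (p ^ 3 * K) ≤ x ^ 3 * (v * n) :=
    calc x ^ 3 * (p ^ 3 * K) = p ^ 3 * (x ^ 3 * K) := by ring
      _ ≤ p ^ 3 * (n * w) := Nat.mul_le_mul_left _ h1
      _ = n * (p ^ 3 * w) := by ring
      _ ≤ n * (x ^ 3 * v) := Nat.mul_le_mul_left _ hw
      _ = x ^ 3 * (v * n) := by ring
  exact absurd (Nat.le_of_mul_le_mul_left h3 (pow_pos (Fact.out : x.Prime).pos 3)) (not_le.2 h2)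

/-- The set-indexed hypotheses of the statements, in terms of a finite set of primes. -/
theorem to_finset (π : Set ℕ) (hπ : ∀ q ∈ π, q.Prime) (m : ℕ) (hm : m ∣ Nat.card G)
    (hmπ : ∀ q : ℕ, q.Prime → q ∣ m → q ∈ π) (hm' : ∀ q ∈ π, ¬ q ∣ Nat.card G / m) :
    ∃ ρ : Finset ℕ, (∀ r ∈ ρ, r.Prime ∧ r ∈ π) ∧ piPart ρ G = m ∧
      kPi ρ G = Nat.card {C : ConjClasses G //
        ∀ q : ℕ, q.Prime → (∃ g : G, ConjClasses.mk g = C ∧ q ∣ orderOf g) → q ∈ π} := by
  classical
  refine ⟨(Nat.card G).primeFactors.filter (· ∈ π), fun r hr => ⟨Nat.prime_of_mem_primeFactors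
    (Finset.mem_filter.1 hr).1, (Finset.mem_filter.1 hr).2⟩, ?_, ?_⟩
  · exact (eq_piPart _ (fun r hr => Nat.prime_of_mem_primeFactors (Finset.mem_filter.1 hr).1) hm
      (fun r hr hd => Finset.mem_filter.2
        ⟨Nat.mem_primeFactors.2 ⟨hr, hd.trans hm, Nat.card_pos.ne'⟩, hmπ r hr hd⟩)
      fun r hr => hm' r (Finset.mem_filter.1 hr).2).symm
  · refine Nat.card_congr (Equiv.subtypeEquivRight fun C => ⟨fun h q hq ⟨g, hg, hd⟩ => ?_, fun h x hx r hr hd => ?_⟩)
    · exact (Finset.mem_filter.1 (h g (ConjClasses.mem_carrier_iff_mk_eq.2 hg) q hq hd)).2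
    · exact Finset.mem_filter.2 ⟨Nat.mem_primeFactors.2 ⟨hr, hd.trans (orderOf_dvd_natCard x),
        Nat.card_pos.ne'⟩, h r hr ⟨x, ConjClasses.mem_carrier_iff_mk_eq.1 hx, hd⟩⟩

end Cfsg.Agent.PiClasses
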