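import Cfsg.Agent.PiClasses.Basic
import Cfsg.Agent.Core.WielandtHall
import Cfsg.Agent.S3899
import Cfsg.Agent.S0024
import Cfsg.Agent.S0025

/-!
A finite group with more than `|G|_π / p` classes of `π`-elements, where `p` is at most every prime
in `π`, has a nilpotent Hall `π`-subgroup.

Induction on `π`. Let `q` be the largest prime in `π` and `σ = π ∖ q`. Some class of `q`-elements has
a centralizer with a nilpotent Hall `σ`-subgroup `H`; if `C(H)` has no full Sylow `q`-subgroup, then
few classes of `q`-elements have such a centralizer, and fusion in a Sylow subgroup bounds the sum.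
-/

set_option autoImplicit false

namespace Cfsg.Agent.PiClasses

open Subgroup ClassCount
open scoped Pointwise

universe u

variable {G : Type u} [Group G] [Finite G]

/-- Wielandt's theorem for a nilpotent subgroup of full `σ`-part order. -/
theorem exists_conj_le (σ : Finset ℕ) (hσ : ∀ r ∈ σ, r.Prime) {K L : Subgroup G}
    (hK : Group.IsNilpotent K) (hKc : Nat.card K = piPart σ G)
    (hL : ∀ r : ℕ, r.Prime → r ∣ Nat.card L → r ∈ σ) : ∃ g : G, L ≤ MulAut.conj g • K := by
  refine Core.exists_le_conj_nilpotent_hall hK (coprime_index σ hσ hKc)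
    (Nat.coprime_of_dvd fun r hr h1 h2 => ?_)
  refine not_dvd_card_div_piPart σ hσ (hL r hr h1) (G := G) ?_
  rwa [← hKc, ← K.card_mul_index, Nat.mul_div_cancel_left _ Nat.card_pos]

theorem mem_conj_smul_iff {g x : G} {K : Subgroup G} :
    x ∈ MulAut.conj g • K ↔ g⁻¹ * x * g ∈ K := by
  rw [Subgroup.mem_pointwise_smul_iff_inv_smul_mem]
  simp

/-- A commuting nilpotent Hall `(π∖q)`-subgroup and Sylow `q`-subgroup make a nilpotent Hall
`π`-subgroup. -/
theorem join_hall (π : Finset ℕ) (hπ : ∀ r ∈ π, r.Prime) {q : ℕ} [Fact q.Prime] (hq : q ∈ π)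
    {K S : Subgroup G} (hK : Group.IsNilpotent K) (hKc : Nat.card K = piPart (π.erase q) G)
    (hS : IsPGroup q S) (hSc : Nat.card S = q ^ (Nat.card G).factorization q)
    (hcomm : S ≤ centralizer (K : Set G)) :
    ∃ H : Subgroup G, Nat.card H = piPart π G ∧ Group.IsNilpotent H := by
  have hco : (Nat.card K).Coprime (Nat.card S) := by
    rw [hKc, hSc]
    refine Nat.Coprime.pow_right _ ((Fact.out : q.Prime).coprime_iff_not_dvd.2 fun h => ?_).symm
    exact Finset.notMem_erase q π
      (prime_of_dvd_piPart (π.erase q) (fun r hr => hπ r (Finset.mem_of_mem_erase hr)) Fact.out h)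
  have hc : ∀ (a : K) (b : S), Commute (K.subtype a) (S.subtype b) := fun a b =>
    mem_centralizer_iff.1 (hcomm b.2) a a.2
  let φ := MonoidHom.noncommCoprod K.subtype S.subtype hc
  have hinj : Function.Injective φ := by
    refine (injective_iff_map_eq_one φ).2 ?_
    rintro ⟨a, b⟩ hab
    replace hab : (a : G) * (b : G) = 1 := hab
    have h : (a : G) = (b : G)⁻¹ := eq_inv_of_mul_eq_one_left hab
    have h1 : (a : G) ∈ K ⊓ S := ⟨a.2, h ▸ S.inv_mem b.2⟩
    rw [inf_eq_bot_of_coprime hco, mem_bot] at h1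
    have ha : a = 1 := Subtype.ext h1
    subst ha
    have hb : b = 1 := Subtype.ext (by simpa using hab)
    rw [hb]; rfl
  refine ⟨φ.range, ?_, ?_⟩
  · rw [← Nat.card_congr (MonoidHom.ofInjective hinj).toEquiv, Nat.card_prod, hKc, hSc,
      piPart_mul π hq, mul_comm]
  · have : Group.IsNilpotent K := hK
    have : Group.IsNilpotent S := hS.isNilpotent
    exact Group.nilpotent_of_mulEquiv (MonoidHom.ofInjective hinj)

/-- A proper subgroup misses a Sylow subgroup. -/
theorem exists_sylow_not_le {L : Subgroup G} (hL : L ≠ ⊤) :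
    ∃ r : ℕ, r.Prime ∧ ∃ R : Sylow r G, ¬ (R : Subgroup G) ≤ L ∧ r ∣ Nat.card G := by
  by_contra! h
  refine hL (eq_top_of_card_eq L (le_antisymm L.card_le_card_group (Nat.le_of_dvd Nat.card_pos ?_)))
  rw [← Nat.factorization_le_iff_dvd Nat.card_pos.ne' Nat.card_pos.ne', Finsupp.le_def]
  intro r
  by_cases hr : r.Prime
  · by_cases hd : r ∣ Nat.card G
    · haveI := Fact.mk hr
      obtain ⟨R⟩ : Nonempty (Sylow r G) := inferInstance
      have hRL : (R : Subgroup G) ≤ L := by
        by_contra hn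
        exact h r hr R hn hd
      have h1 := card_dvd_of_le hRL
      rw [R.card_eq_multiplicity, hr.pow_dvd_iff_le_factorization Nat.card_pos.ne'] at h1
      exact h1
    · rw [Nat.factorization_eq_zero_of_not_dvd hd]
      exact Nat.zero_le _
  · rw [Nat.factorization_eq_zero_of_not_prime _ hr]
    exact Nat.zero_le _

/-- A weighted sum over a two-part split. -/
theorem sum_split {ι : Type*} [Fintype ι] (k : ι → ℕ) (F : Finset ι) (A a b m : ℕ)
    (hF : ∀ c ∈ F, A * k c ≤ a * m) (hN : ∀ c, c ∉ F → A * k c ≤ b * m) :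
    A * ∑ c, k c ≤ m * (a * F.card + b * (Fintype.card ι - F.card)) := by
  classical
  rw [← Finset.sum_add_sum_compl F, mul_add, Finset.mul_sum, Finset.mul_sum, mul_add]
  refine Nat.add_le_add ?_ ?_
  · refine (Finset.sum_le_sum hF).trans (le_of_eq ?_)
    rw [Finset.sum_const, smul_eq_mul]; ring
  · refine (Finset.sum_le_sum fun c hc => hN c (Finset.mem_compl.1 hc)).trans (le_of_eq ?_)
    rw [Finset.sum_const, smul_eq_mul, Finset.card_compl]; ring

theorem arith_nonabelian {p q f K n : ℕ} (hpq : p + 1 ≤ q) (hp : 1 ≤ p) (hfK : f ≤ K)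
    (hf : q * f ≤ n) (hK : q ^ 3 * K ≤ n * (q ^ 2 + q - 1)) : p * f + 1 * (K - f) ≤ n := by
  obtain ⟨d, rfl⟩ : ∃ d, q = p + 1 + d := ⟨q - p - 1, by omega⟩
  obtain ⟨e, rfl⟩ : ∃ e, p = e + 1 := ⟨p - 1, by omega⟩
  obtain ⟨g, rfl⟩ : ∃ g, K = f + g := ⟨K - f, by omega⟩
  rw [Nat.add_sub_cancel_left]
  set Q := e + 1 + 1 + d with hQ
  rw [show Q ^ 2 + Q - 1 = Q ^ 2 + (e + 1 + d) by omega] at hK
  refine Nat.le_of_mul_le_mul_left ?_ (pow_pos (show 0 < Q by omega) 3)
  nlinarith [Nat.mul_le_mul_left (e * Q ^ 2) hf, Nat.zero_le (d * Q ^ 2 * n), Nat.zero_le (Q * n),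
    congrArg (n * ·) hQ, congrArg (Q ^ 2 * n * ·) hQ,
    Nat.mul_le_mul_left (n * Q) (show 1 ≤ Q by omega)]

theorem arith_fused {q f K n : ℕ} (hq : 2 ≤ q) (hfK : f ≤ K) (hf : q * f ≤ n)
    (hK : 2 * q * K ≤ (q + 1) * n) : (q + 1) * f + 2 * (K - f) ≤ 2 * n := by
  obtain ⟨d, rfl⟩ : ∃ d, q = d + 2 := ⟨q - 2, by omega⟩
  obtain ⟨g, rfl⟩ : ∃ g, K = f + g := ⟨K - f, by omega⟩
  rw [Nat.add_sub_cancel_left]
  refine Nat.le_of_mul_le_mul_left ?_ (show 0 < d + 2 by omega)
  nlinarith [Nat.mul_le_mul_left (d + 1) hf]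

theorem arith_normal {p q r f K n : ℕ} (hp : 1 ≤ p) (hpr : p ≤ r) (hrq : r + 1 ≤ q) (hfK : f ≤ K)
    (hf : q * f ≤ n) (hK : (r + 1) * K ≤ 2 * n) : p * f + 1 * (K - f) ≤ n := by
  obtain ⟨g, rfl⟩ : ∃ g, K = f + g := ⟨K - f, by omega⟩
  rw [Nat.add_sub_cancel_left]
  refine Nat.le_of_mul_le_mul_left ?_ (show 0 < r + 1 by omega)
  have h1 : (r + 1) * f ≤ n := (Nat.mul_le_mul_right f hrq).trans hf
  have h2 : p * ((r + 1) * f) ≤ r * ((r + 1) * f) := Nat.mul_le_mul_right _ hpr
  nlinarith [Nat.mul_le_mul_left (r - 1) h1, Nat.sub_add_cancel (show 1 ≤ r by omega)]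

theorem false_of_bound {A p k m n T : ℕ} (hA : 0 < A) (hsum : A * k ≤ m * T)
    (hT : p * T ≤ A * n) (hmany : n * m < p * k) : False := by
  have h1 : A * (p * k) ≤ A * (n * m) :=
    calc A * (p * k) = p * (A * k) := by ring
      _ ≤ p * (m * T) := Nat.mul_le_mul_left _ hsum
      _ = m * (p * T) := by ring
      _ ≤ m * (A * n) := Nat.mul_le_mul_left _ hT
      _ = A * (n * m) := by ring
  exact absurd (Nat.le_of_mul_le_mul_left h1 hA) (not_le.2 hmany)

/-- The classes of `q`-elements. -/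
abbrev QClasses (q : ℕ) (G : Type u) [Group G] :=
  {c : ConjClasses G // ∀ x ∈ c.carrier, ∃ k : ℕ, orderOf x = q ^ k}

theorem out_isQElt {q : ℕ} (c : QClasses q G) : ∃ k : ℕ, orderOf c.1.out = q ^ k :=
  c.2 _ (ConjClasses.mem_carrier_iff_mk_eq.2 (Quotient.out_eq c.1))

theorem qClasses_ext {q : ℕ} {c c' : QClasses q G} (h : IsConj c.1.out c'.1.out) : c = c' :=
  Subtype.ext ((Quotient.out_eq c.1).symm.trans
    ((ConjClasses.mk_eq_mk_iff_isConj.2 h).trans (Quotient.out_eq c'.1)))

/-- The classes with representatives in a given subgroup are at most its order. -/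
theorem card_le_of_reps {q : ℕ} (S : Subgroup G) (F : Finset (QClasses q G))
    (h : ∀ c ∈ F, ∃ z ∈ S, IsConj c.1.out z) : F.card ≤ Nat.card S := by
  choose z hz hc using h
  rw [← Nat.card_eq_finsetCard]
  refine Nat.card_le_card_of_injective (fun c : F => (⟨z c.1 c.2, hz c.1 c.2⟩ : S)) fun c d he => ?_
  have he' : z c.1 c.2 = z d.1 d.2 := congrArg Subtype.val he
  exact Subtype.ext (qClasses_ext ((hc c.1 c.2).trans (he' ▸ (hc d.1 d.2).symm)))

/-- In a group with many classes of `σ`-elements for odd primes `σ`, an element of prime power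
order in `σ` acts nontrivially on an abelian Sylow `q`-subgroup, or `q` commutes with a Hall
`σ`-subgroup. -/
theorem normal_complement_case (π : Finset ℕ) (hπ : ∀ r ∈ π, r.Prime) {q : ℕ} [Fact q.Prime]
    (hq : q ∈ π) (D : Subgroup G) (hfull : piPart (π.erase q) D = piPart (π.erase q) G) (p' : ℕ)
    (hp' : p' ∈ π.erase q) (hmin : ∀ r ∈ π.erase q, p' ≤ r) (h2 : 2 ∉ π.erase q)
    (hk : (p' + 1) * piPart (π.erase q) D < 2 * p' * kPi (π.erase q) D) (S : Sylow q G)
    (hSD : (S : Subgroup G) ≤ D) :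
    (∃ H : Subgroup G, Nat.card H = piPart π G ∧ Group.IsNilpotent H) ∨
      ∃ r ∈ π.erase q, ∃ y ∈ normalizer ((S : Subgroup G) : Set G), (∃ k : ℕ, orderOf y = r ^ k) ∧
        ¬ (S : Subgroup G) ≤ centralizer ({y} : Set G) := by
  set σ := π.erase q with hσdef
  have hσ : ∀ r ∈ σ, r.Prime := fun r hr => hπ r (Finset.mem_of_mem_erase hr)
  obtain ⟨⟨N, hN, hNσ, hNi⟩, H2, hH2, hab2⟩ :=
    Cfsg.Agent.S3899.result (G := ↥D) σ hσ h2 p' hp' hmin hk
  haveI := hN
  have hidx : N.index = piPart σ D := by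
    refine eq_piPart σ hσ N.index_dvd_card hNi fun r hr hd => ?_
    rw [← N.card_mul_index, Nat.mul_div_cancel _ (Nat.pos_of_ne_zero N.index_ne_zero_of_finite)] at hd
    exact hNσ r (hσ r hr) hd hr
  have hH2c : Nat.card H2 = piPart σ D := by
    refine eq_piPart σ hσ H2.card_subgroup_dvd_card (fun r hr hd => Finset.mem_coe.1 (hH2.1 r hr hd))
      fun r hr hd => ?_
    rw [← H2.card_mul_index, Nat.mul_div_cancel_left _ Nat.card_pos] at hd
    exact hH2.2 r (hσ r hr) (Finset.mem_coe.2 hr) hd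
  -- the quotient by `N` is abelian
  have habq : ∀ a b : ↥D ⧸ N, a * b = b * a := by
    let φ : H2 →* ↥D ⧸ N := (QuotientGroup.mk' N).comp H2.subtype
    have hinj : Function.Injective φ := (injective_iff_map_eq_one φ).2 fun x hx => by
      have h1 : (x : D) ∈ N ⊓ H2 := ⟨(QuotientGroup.eq_one_iff (x : D)).1 hx, x.2⟩
      rw [inf_eq_bot_of_coprime (Nat.coprime_of_dvd fun r hr h h' =>
        hNσ r hr h (Finset.mem_coe.1 (hH2.1 r hr h'))), mem_bot] at h1
      exact Subtype.ext h1
    have hsur : Function.Surjective φ := ((Nat.bijective_iff_injective_and_card φ).2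
      ⟨hinj, hH2c.trans hidx.symm⟩).2
    intro a b
    obtain ⟨x, rfl⟩ := hsur a
    obtain ⟨y, rfl⟩ := hsur b
    rw [← map_mul, ← map_mul, hab2.is_comm.comm x y]
  let SD : Sylow q ↥D := S.subtype hSD
  have hSN : (SD : Subgroup D) ≤ N := by
    intro x hx
    rw [← QuotientGroup.eq_one_iff, ← orderOf_eq_one_iff]
    obtain ⟨k, hk'⟩ := IsPGroup.iff_orderOf.1 SD.2 ⟨x, hx⟩
    have h1 : orderOf (x : ↥D ⧸ N) ∣ q ^ k := by
      rw [← hk', Subgroup.orderOf_mk]
      exact orderOf_map_dvd (QuotientGroup.mk' N) x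
    have h2' : orderOf (x : ↥D ⧸ N) ∣ N.index := orderOf_dvd_natCard _
    obtain ⟨j, -, hj⟩ := (Nat.dvd_prime_pow Fact.out).1 h1
    rcases Nat.eq_zero_or_pos j with rfl | hj0
    · simpa using hj
    · exact absurd (hNi q Fact.out ((dvd_pow_self q hj0.ne').trans (hj ▸ h2')))
        (Finset.notMem_erase q π)
  -- complement in the normalizer
  set N0 := normalizer ((SD : Subgroup D) : Set D) with hN0
  have hsup : N0 ⊔ N = ⊤ := Sylow.normalizer_sup_eq_top' SD hSN
  have hrel : N.relIndex N0 = N.index := by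
    rw [← relIndex_sup_right (H := N0) (K := N), hsup, relIndex_top_right]
  have hMi : (N.subgroupOf N0).index = piPart σ D := hrel.trans hidx
  have hMd : Nat.card (N.subgroupOf N0) ∣ Nat.card N := by
    rw [← inf_subgroupOf_right N N0,
      Nat.card_congr (subgroupOfEquivOfLe (inf_le_right : N ⊓ N0 ≤ N0)).toEquiv]
    exact card_dvd_of_le inf_le_left
  have hcoM : (Nat.card (N.subgroupOf N0)).Coprime (N.subgroupOf N0).index :=
    Nat.coprime_of_dvd fun r hr h h' =>
      hNσ r hr (h.trans hMd) (prime_of_dvd_piPart σ hσ hr (hMi ▸ h'))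
  obtain ⟨H3, hH3⟩ := exists_right_complement'_of_coprime hcoM
  have hH3c : Nat.card H3 = piPart σ G := by
    rw [← hH3.symm.index_eq_card, hMi, hfull]
  have hH3ab : ∀ a ∈ H3, ∀ b ∈ H3, a * b = b * a := by
    intro a ha b hb
    have h1 : a * b * a⁻¹ * b⁻¹ ∈ N.subgroupOf N0 ⊓ H3 := by
      refine ⟨?_, H3.mul_mem (H3.mul_mem (H3.mul_mem ha hb) (H3.inv_mem ha)) (H3.inv_mem hb)⟩
      show ((a * b * a⁻¹ * b⁻¹ : N0) : D) ∈ N
      have hq4 : ∀ A B : ↥D ⧸ N, A * B * A⁻¹ * B⁻¹ = 1 := fun A B => by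
        rw [habq A B, mul_inv_cancel_right, mul_inv_cancel]
      rw [← QuotientGroup.eq_one_iff]
      exact hq4 (QuotientGroup.mk (a : D)) (QuotientGroup.mk (b : D))
    rw [hH3.disjoint.eq_bot, mem_bot, mul_inv_eq_one, mul_inv_eq_iff_eq_mul] at h1
    exact h1
  let ι : N0 →* G := D.subtype.comp N0.subtype
  have hι : Function.Injective ι := D.subtype_injective.comp N0.subtype_injective
  have hnorm : ∀ z : N0, ι z ∈ normalizer ((S : Subgroup G) : Set G) := by
    intro z
    refine mem_normalizer_iff.2 fun s => ⟨fun hs => ?_, fun hs => ?_⟩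
    · exact (mem_normalizer_iff.1 z.2 ⟨s, hSD hs⟩).1 hs
    · have hsD : s ∈ D := by
        have h1 : ι z * s * (ι z)⁻¹ ∈ D := hSD hs
        have h2' : (ι z)⁻¹ * (ι z * s * (ι z)⁻¹) * ι z ∈ D :=
          D.mul_mem (D.mul_mem (D.inv_mem (z : D).2) h1) (z : D).2
        simpa [mul_assoc] using h2'
      exact (mem_normalizer_iff.1 z.2 ⟨s, hsD⟩).2 hs
  let C3 : Subgroup H3 := (centralizer ((S : Subgroup G) : Set G)).comap (ι.comp H3.subtype)
  by_cases hC3 : C3 = ⊤
  · left
    refine join_hall π hπ hq (K := H3.map ι) (S := (S : Subgroup G)) ?_ ?_ S.2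
      S.card_eq_multiplicity ?_
    · have : IsMulCommutative H3 := ⟨⟨fun a b => Subtype.ext (hH3ab a a.2 b b.2)⟩⟩
      have hc : IsMulCommutative (H3.map ι) := inferInstance
      letI : CommGroup (H3.map ι) := { (inferInstance : Group (H3.map ι)) with
        mul_comm := hc.is_comm.comm }
      infer_instance
    · rw [card_map_of_injective hι, hH3c]
    · rw [le_centralizer_iff]
      rintro _ ⟨z, hz, rfl⟩
      exact (hC3.symm ▸ mem_top (⟨z, hz⟩ : H3) : (⟨z, hz⟩ : H3) ∈ C3)
  · right
    obtain ⟨r, hr, R, hR, hrd⟩ := exists_sylow_not_le hC3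
    haveI := Fact.mk hr
    obtain ⟨z, hz, hzC⟩ := SetLike.not_le_iff_exists.1 hR
    refine ⟨r, prime_of_dvd_piPart σ hσ hr (hH3c ▸ hrd), ι z.1, hnorm _, ?_, fun hle => hzC ?_⟩
    · obtain ⟨k, hk'⟩ := IsPGroup.iff_orderOf.1 R.2 ⟨z, hz⟩
      refine ⟨k, ?_⟩
      rw [orderOf_injective ι hι, Subgroup.orderOf_coe]
      rwa [Subgroup.orderOf_mk] at hk'
    · show ι z.1 ∈ centralizer ((S : Subgroup G) : Set G)
      exact mem_centralizer_iff.2 fun s hs => mem_centralizer_singleton_iff.1 (hle hs)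

/-- The inductive step. -/
theorem step (π : Finset ℕ) (hπ : ∀ r ∈ π, r.Prime) {q : ℕ} [Fact q.Prime] (hq : q ∈ π)
    (hqmax : ∀ r ∈ π, r ≤ q) (p : ℕ) (hp2 : 2 ≤ p) (hp : ∀ r ∈ π, p ≤ r)
    (ih : ∀ D : Subgroup G, piPart (π.erase q) D < p * kPi (π.erase q) D →
      ∃ H : Subgroup D, Nat.card H = piPart (π.erase q) D ∧ Group.IsNilpotent H)
    (hmany : piPart π G < p * kPi π G) :
    ∃ H : Subgroup G, Nat.card H = piPart π G ∧ Group.IsNilpotent H := by
  classical
  set σ := π.erase q with hσdef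
  have hσ : ∀ r ∈ σ, r.Prime := fun r hr => hπ r (Finset.mem_of_mem_erase hr)
  have hpσ : ∀ r ∈ σ, p ≤ r := fun r hr => hp r (Finset.mem_of_mem_erase hr)
  set m := piPart σ G with hm
  set n := q ^ (Nat.card G).factorization q with hn
  have hmany' : n * m < p * kPi π G := by rwa [piPart_mul π hq] at hmany
  have := Fintype.ofFinite (QClasses q G)
  set D : QClasses q G → Subgroup G := fun c => centralizer ({c.1.out} : Set G) with hD
  set k : QClasses q G → ℕ := fun c => kPi σ ↥(D c) with hk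
  have hsum : kPi π G ≤ ∑ c, k c := by
    have h := kPi_le_sum (G := G) π q Fact.out
    rwa [finsum_eq_sum_of_fintype] at h
  have hkm : ∀ c, k c ≤ m := fun c =>
    (kPi_le_piPart σ hσ _).trans (piPart_subgroup_le σ hσ _)
  have hkq : Fintype.card (QClasses q G) = kP q G := Nat.card_eq_fintype_card.symm
  have hKn : kP q G ≤ n := by
    obtain ⟨S⟩ : Nonempty (Sylow q G) := inferInstance
    exact (kP_le_card S).trans (le_of_eq S.card_eq_multiplicity)
  have hhigh : ∀ c, m < p * k c → ∃ K : Subgroup G, K ≤ D c ∧ Nat.card K = m ∧ Group.IsNilpotent K := by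
    intro c hc
    have he : piPart σ ↥(D c) = m := by
      by_contra hne
      exact absurd ((Nat.mul_le_mul_left p (kPi_le_piPart σ hσ ↥(D c))).trans
        (mul_le_of_ne σ hσ hpσ (piPart_subgroup_dvd σ (D c)) hne)) (not_le.2 hc)
    obtain ⟨K, hK, hKn'⟩ := ih (D c) (by rw [he]; exact hc)
    refine ⟨K.map (D c).subtype, map_subtype_le _, ?_, ?_⟩
    · rw [card_map_of_injective (D c).subtype_injective, hK, he]
    · exact Group.nilpotent_of_mulEquiv (K.equivMapOfInjective _ (D c).subtype_injective)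
  -- a nilpotent Hall subgroup for the smaller set of primes
  obtain ⟨c0, hc0⟩ : ∃ c, m < p * k c := by
    by_contra! h
    have h1 := sum_split k (∅ : Finset (QClasses q G)) p 0 1 m (by simp) fun c _ => by simpa using h c
    simp only [Finset.card_empty, Nat.sub_zero, zero_mul, zero_add, one_mul, hkq] at h1
    have h2 : p * kPi π G ≤ m * n :=
      (Nat.mul_le_mul_left p hsum).trans (h1.trans (Nat.mul_le_mul_left m hKn))
    rw [mul_comm m n] at h2
    omega
  obtain ⟨H, -, hHc, hHn⟩ := hhigh c0 hc0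
  have hHσ : ∀ r : ℕ, r.Prime → r ∣ Nat.card H → r ∈ σ := fun r hr hd =>
    prime_of_dvd_piPart σ hσ hr (hHc ▸ hd)
  set CH := centralizer (H : Set G) with hCH
  obtain ⟨Qc⟩ : Nonempty (Sylow q ↥CH) := inferInstance
  by_cases hfull : Nat.card (Qc : Subgroup CH) = n
  · refine join_hall π hπ hq hHn hHc (S := (Qc : Subgroup CH).map CH.subtype)
      (Qc.2.map _) ?_ (map_subtype_le _)
    rw [card_map_of_injective CH.subtype_injective, hfull]
  have hQc : q * Nat.card (Qc : Subgroup CH) ≤ n := by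
    rw [Qc.card_eq_multiplicity] at hfull ⊢
    rw [mul_comm, ← pow_succ]
    refine Nat.pow_le_pow_right (Fact.out : q.Prime).pos ?_
    have hle := (Nat.factorization_le_iff_dvd Nat.card_pos.ne' Nat.card_pos.ne').2
      (card_subgroup_dvd_card CH) q
    rcases hle.lt_or_eq with h | h
    · omega
    · exact absurd (congrArg (q ^ ·) h) hfull
  have hqpos : 0 < q := (Fact.out : q.Prime).pos
  -- some prime of `σ` divides `|G|`
  obtain ⟨r0, hr0⟩ : σ.Nonempty := by
    by_contra he
    rw [Finset.not_nonempty_iff_eq_empty] at he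
    have hH1 : H = ⊥ := eq_bot_of_card_eq H (by rw [hHc, hm, he]; simp [piPart])
    obtain ⟨S⟩ : Nonempty (Sylow q G) := inferInstance
    have hSC : (S : Subgroup G) ≤ CH := fun x _ => mem_centralizer_iff.2 fun h hh => by
      rw [hH1] at hh
      rw [mem_bot.1 hh, one_mul, mul_one]
    obtain ⟨Q', hQ'⟩ := (S.2.comap_of_injective CH.subtype CH.subtype_injective).exists_le_sylow
    have h1 : Nat.card (S : Subgroup G) ≤ Nat.card (Q' : Subgroup CH) := by
      rw [← Nat.card_congr (subgroupOfEquivOfLe hSC).toEquiv]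
      exact card_le_of_le hQ'
    rw [S.card_eq_multiplicity, Q'.card_eq_multiplicity] at h1
    rw [Qc.card_eq_multiplicity] at hQc
    have h3 : 2 * q ^ (Nat.card CH).factorization q ≤ q * q ^ (Nat.card CH).factorization q :=
      Nat.mul_le_mul_right _ (Fact.out : q.Prime).two_le
    have h4 : 0 < q ^ (Nat.card CH).factorization q := pow_pos hqpos _
    omega
  have hr0q : r0 + 1 ≤ q := by
    have := hqmax r0 (Finset.mem_of_mem_erase hr0)
    have := Finset.ne_of_mem_erase hr0
    omega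
  have hpq : p + 1 ≤ q := by have := hpσ r0 hr0; omega
  -- the classes whose centralizer contains a nilpotent Hall `σ`-subgroup
  set F := Finset.univ.filter fun c : QClasses q G =>
    ∃ K : Subgroup G, K ≤ D c ∧ Nat.card K = m ∧ Group.IsNilpotent K with hF
  have hNF : ∀ c, c ∉ F → p * k c ≤ 1 * m := by
    intro c hc
    rw [one_mul]
    by_contra! h
    exact hc (Finset.mem_filter.2 ⟨Finset.mem_univ _, hhigh c h⟩)
  have hfq : q * F.card ≤ n := by
    refine (Nat.mul_le_mul_left q ?_).trans hQc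
    have hle := card_le_of_reps ((Qc : Subgroup CH).map CH.subtype) F ?_
    · rwa [card_map_of_injective CH.subtype_injective] at hle
    intro c hc
    obtain ⟨K, hKD, hKc, hKn'⟩ := (Finset.mem_filter.1 hc).2
    obtain ⟨g, hg⟩ := exists_conj_le σ hσ hKn' hKc (L := H) hHσ
    have hx : g * c.1.out * g⁻¹ ∈ CH := mem_centralizer_iff.2 fun h hh => by
      have h1 := mem_centralizer_singleton_iff.1 (hKD (mem_conj_smul_iff.1 (hg hh)))
      calc h * (g * c.1.out * g⁻¹) = g * (g⁻¹ * h * g * c.1.out) * g⁻¹ := by group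
        _ = g * (c.1.out * (g⁻¹ * h * g)) * g⁻¹ := by rw [h1]
        _ = g * c.1.out * g⁻¹ * h := by group
    obtain ⟨z, hz, hzc⟩ := exists_mem_sylow_isConj Qc ⟨_, hx⟩ (by
      obtain ⟨j, hj⟩ := out_isQElt c
      exact ⟨j, by rw [← Subgroup.orderOf_coe]; exact ((MulAut.conj g).orderOf_eq _).trans hj⟩)
    exact ⟨z, ⟨z, hz, rfl⟩, (isConj_iff.2 ⟨g, rfl⟩).trans (CH.subtype.map_isConj hzc)⟩
  have hfK : F.card ≤ kP q G := hkq ▸ Finset.card_le_univ F
  -- non-abelian Sylow subgroup
  by_cases hab : ∃ S : Sylow q G, ¬ IsMulCommutative (S : Subgroup G)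
  · obtain ⟨S, hS⟩ := hab
    have h1 := sum_split k F p p 1 m (fun c _ => Nat.mul_le_mul_left p (hkm c)) hNF
    rw [hkq] at h1
    exfalso
    refine false_of_bound (show 0 < p by omega) ((Nat.mul_le_mul_left p hsum).trans h1)
      (Nat.mul_le_mul_left p (arith_nonabelian hpq (by omega) hfK hfq ?_)) hmany'
    have := kP_nonabelian S hS
    rwa [S.card_eq_multiplicity] at this
  push Not at hab
  by_cases hfus : ∃ S : Sylow q G,
      ¬ normalizer ((S : Subgroup G) : Set G) ≤ centralizer ((S : Subgroup G) : Set G)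
  · -- fusion in an abelian Sylow subgroup
    obtain ⟨S, hS⟩ := hfus
    have hK2 : 2 * q * kP q G ≤ (q + 1) * n := by
      have := kP_fused_two S hS
      rwa [S.card_eq_multiplicity] at this
    by_cases hgood : ∀ c ∈ F, 2 * p * k c ≤ (q + 1) * m
    · have h1 := sum_split k F (2 * p) (q + 1) 2 m hgood fun c hc =>
        calc 2 * p * k c = 2 * (p * k c) := mul_assoc _ _ _
          _ ≤ 2 * (1 * m) := Nat.mul_le_mul_left 2 (hNF c hc)
          _ = 2 * m := by rw [one_mul]
      rw [hkq] at h1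
      exfalso
      refine false_of_bound (show 0 < 2 * p by omega) ((Nat.mul_le_mul_left _ hsum).trans h1)
        ?_ hmany'
      calc p * ((q + 1) * F.card + 2 * (kP q G - F.card)) ≤ p * (2 * n) :=
            Nat.mul_le_mul_left p (arith_fused (by omega) hfK hfq hK2)
        _ = 2 * p * n := by ring
    push Not at hgood
    obtain ⟨c, hc, hck⟩ := hgood
    have hp3 : 3 ≤ p := by
      by_contra hlt
      have hp' : p = 2 := by omega
      have h1 := Nat.mul_le_mul_left 4 (hkm c)
      have h2 : 4 * m ≤ (q + 1) * m := Nat.mul_le_mul_right m (by omega)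
      rw [hp'] at hck
      omega
    set p' := σ.min' ⟨r0, hr0⟩
    have hp'σ : p' ∈ σ := Finset.min'_mem _ _
    have hp'q : p' + 1 ≤ q := by
      have := Finset.min'_le σ r0 hr0
      omega
    obtain ⟨K, hKD, hKc, -⟩ := (Finset.mem_filter.1 hc).2
    have hDfull : piPart σ ↥(D c) = m := Nat.dvd_antisymm (piPart_subgroup_dvd σ (D c)) (by
      have h1 : m ∣ Nat.card ↥(D c) := hKc ▸ card_dvd_of_le hKD
      rw [← Nat.factorization_le_iff_dvd (piPart_pos σ hσ).ne' (piPart_pos σ hσ).ne', Finsupp.le_def]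
      intro r
      have h2 := (Nat.factorization_le_iff_dvd (piPart_pos σ hσ).ne' Nat.card_pos.ne').2 h1 r
      rw [factorization_piPart σ hσ, factorization_piPart σ hσ] at *
      split_ifs at * with hr
      · exact h2
      · exact le_rfl)
    obtain ⟨j, hj⟩ := out_isQElt c
    have hzp : IsPGroup q (zpowers c.1.out) := IsPGroup.of_card (by rw [Nat.card_zpowers, hj])
    obtain ⟨S', hS'⟩ := hzp.exists_le_sylow
    have hSD : (S' : Subgroup G) ≤ D c := fun x hx => mem_centralizer_singleton_iff.2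
      (congrArg Subtype.val ((hab S').is_comm.comm ⟨x, hx⟩ ⟨_, hS' (mem_zpowers _)⟩))
    have hk3 : (p' + 1) * piPart σ ↥(D c) < 2 * p' * k c := by
      rw [hDfull]
      calc (p' + 1) * m ≤ (q + 1) * m := Nat.mul_le_mul_right m (by omega)
        _ < 2 * p * k c := hck
        _ ≤ 2 * p' * k c := Nat.mul_le_mul_right _ (Nat.mul_le_mul_left 2 (hpσ p' hp'σ))
    rcases normal_complement_case π hπ hq (D c) hDfull p' hp'σ
      (fun r hr => Finset.min'_le σ r hr) (fun h2 => absurd (hpσ 2 h2) (by omega)) hk3 S' hSD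
      with ⟨K', hK'c, hK'n⟩ | ⟨r, hr, y, hyN, ⟨i, hyi⟩, hyC⟩
    · exact ⟨K', hK'c, hK'n⟩
    · have hK : (r + 1) * kP q G ≤ 2 * n := by
        haveI := Fact.mk (hσ r hr)
        have := kP_fused (q := r) (Finset.ne_of_mem_erase hr) S' hyN hyi hyC
        rwa [S'.card_eq_multiplicity] at this
      have h1 := sum_split k F p p 1 m (fun c _ => Nat.mul_le_mul_left p (hkm c)) hNF
      rw [hkq] at h1
      exfalso
      refine false_of_bound (show 0 < p by omega) ((Nat.mul_le_mul_left p hsum).trans h1)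
        (Nat.mul_le_mul_left p (arith_normal (by omega) (hpσ r hr) ?_ hfK hfq hK)) hmany'
      have := hqmax r (Finset.mem_of_mem_erase hr)
      have := Finset.ne_of_mem_erase hr
      omega
  -- every Sylow subgroup is central in its normalizer: a normal `q`-complement
  push Not at hfus
  exfalso
  set NH := normalizer (H : Set G) with hNH
  obtain ⟨T⟩ : Nonempty (Sylow q ↥NH) := inferInstance
  obtain ⟨S, hST⟩ := (T.2.map NH.subtype).exists_le_sylow
  have hN := hfus S
  set K := (MonoidHom.transferSylow S hN).ker with hKdef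
  have hKS : K.IsComplement' (S : Subgroup G) := MonoidHom.ker_transferSylow_isComplement' S hN
  have hKn' : K.Normal := inferInstance
  have hKi : K.index = n := hKS.symm.index_eq_card.trans S.card_eq_multiplicity
  have hqK : ¬ q ∣ Nat.card K := hKS.index_eq_card ▸ S.not_dvd_index
  have hinK : ∀ x : G, ¬ q ∣ orderOf x → x ∈ K := fun x hx => by
    rw [← QuotientGroup.eq_one_iff, ← orderOf_eq_one_iff]
    have h1 : orderOf (x : G ⧸ K) ∣ q ^ (Nat.card G).factorization q := by
      rw [← hn, ← hKi]; exact orderOf_dvd_natCard _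
    obtain ⟨j, -, hj⟩ := (Nat.dvd_prime_pow Fact.out).1 h1
    rcases Nat.eq_zero_or_pos j with rfl | hj0
    · simpa using hj
    · exact absurd ((dvd_pow_self q hj0.ne').trans (hj ▸ orderOf_map_dvd (QuotientGroup.mk' K) x)) hx
  have hqH : ¬ q ∣ Nat.card H := fun h => Finset.notMem_erase q π (hHσ q Fact.out h)
  have hHK : H ≤ K := fun h hh => hinK h fun hd => hqH (hd.trans (H.orderOf_dvd_natCard hh))
  -- a Sylow `q`-subgroup normalizes `H`
  have hcover : NH ⊔ K = ⊤ := by
    refine eq_top_iff.2 fun g _ => ?_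
    have hmem : ∀ h ∈ H, g * h * g⁻¹ ∈ K := fun h hh => hKn'.conj_mem h (hHK hh) g
    obtain ⟨c, hc⟩ := Core.exists_le_conj_nilpotent_hall (G := ↥K)
      (H := H.subgroupOf K) (K := (MulAut.conj g • H).subgroupOf K)
      (by haveI := hHn; exact Group.nilpotent_of_mulEquiv (subgroupOfEquivOfLe hHK).symm)
      (by
        rw [Nat.card_congr (subgroupOfEquivOfLe hHK).toEquiv]
        exact (coprime_index σ hσ hHc).coprime_dvd_right (relIndex_dvd_index_of_le hHK))
      (by
        have hle : MulAut.conj g • H ≤ K := fun x hx => by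
          have h := hmem _ (mem_conj_smul_iff.1 hx)
          simpa [mul_assoc] using h
        rw [Nat.card_congr (subgroupOfEquivOfLe hle).toEquiv,
          ← Nat.card_congr (Subgroup.equivSMul (MulAut.conj g) H).toEquiv]
        exact (coprime_index σ hσ hHc).coprime_dvd_right (relIndex_dvd_index_of_le hHK))
    have hgc : (c : G)⁻¹ * g ∈ NH := mem_normalizer_fintype fun h hh => by
      have h1 : (⟨g * h * g⁻¹, hmem h hh⟩ : K) ∈ (MulAut.conj g • H).subgroupOf K := by
        rw [mem_subgroupOf, mem_conj_smul_iff]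
        simpa [mul_assoc] using hh
      have h2 := mem_conj_smul_iff.1 (hc h1)
      rw [mem_subgroupOf] at h2
      simpa [mul_assoc] using h2
    have h3 := mul_mem (mem_sup_right (S := NH) c.2) (mem_sup_left (T := K) hgc)
    rwa [mul_inv_cancel_left] at h3
  have hNHi : ¬ q ∣ NH.index := fun hd => by
    have h1 : NH.relIndex K = NH.index := by
      have e1 := relIndex_mul_index (inf_le_left : NH ⊓ K ≤ NH)
      have e2 := relIndex_mul_index (inf_le_right : NH ⊓ K ≤ K)
      rw [inf_relIndex_left] at e1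
      rw [inf_relIndex_right, ← e1] at e2
      have e3 : K.relIndex NH = K.index := by
        rw [← relIndex_sup_right (H := NH) (K := K), hcover, relIndex_top_right]
      rw [e3, mul_comm K.index] at e2
      exact Nat.eq_of_mul_eq_mul_right (Nat.pos_of_ne_zero K.index_ne_zero_of_finite) e2
    exact hqK (hd.trans (h1 ▸ relIndex_dvd_card NH K))
  have hSN : (S : Subgroup G) ≤ NH := by
    have hc : Nat.card ((T : Subgroup NH).map NH.subtype) = n := by
      rw [card_map_of_injective NH.subtype_injective, T.card_eq_multiplicity, hn]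
      congr 1
      have h1 := congrArg Nat.factorization NH.card_mul_index
      rw [Nat.factorization_mul Nat.card_pos.ne' NH.index_ne_zero_of_finite] at h1
      have h2 := DFunLike.congr_fun h1 q
      rw [Finsupp.add_apply, Nat.factorization_eq_zero_of_not_dvd hNHi, add_zero] at h2
      exact h2
    have h2 : (T : Subgroup NH).map NH.subtype = (S : Subgroup G) :=
      eq_of_le_of_card_ge hST (by rw [hc, S.card_eq_multiplicity])
    rw [← h2]
    exact map_subtype_le _
  -- Sylow subgroups of `H`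
  have hnotle : ∀ y : G, y ∉ CH → ∃ r : ℕ, r ∈ σ ∧ ∃ R : Subgroup G, IsPGroup r R ∧ R ≤ H ∧
      Nat.card R = r ^ (Nat.card G).factorization r ∧ ¬ R ≤ centralizer ({y} : Set G) ∧
      ∀ g ∈ NH, g ∈ normalizer (R : Set G) := by
    intro y hy
    have hne : (centralizer ({y} : Set G)).subgroupOf H ≠ ⊤ := fun he => hy
      (mem_centralizer_iff.2 fun h hh => mem_centralizer_singleton_iff.1 (subgroupOf_eq_top.1 he hh))
    obtain ⟨r, hr, R, hR, hrd⟩ := exists_sylow_not_le hne
    haveI := Fact.mk hr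
    have htfae := (Group.isNilpotent_of_finite_tfae (G := H)).out 0 3
    have hRn : (R : Subgroup H).Normal := htfae.1 hHn r inferInstance R
    have hrσ := hHσ r hr hrd
    have hRc : (R : Subgroup H).Characteristic := R.characteristic_of_normal hRn
    refine ⟨r, hrσ, (R : Subgroup H).map H.subtype, R.2.map _, map_subtype_le _, ?_, ?_, ?_⟩
    · rw [card_map_of_injective H.subtype_injective, R.card_eq_multiplicity, hHc,
        factorization_piPart σ hσ, if_pos hrσ]
    · exact fun hle => hR fun z hz => hle ⟨z, hz, rfl⟩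
    · intro g hg
      refine mem_normalizer_fintype ?_
      rintro _ ⟨z, hz, rfl⟩
      have hzg : g * z * g⁻¹ ∈ H := (mem_normalizer_iff.1 hg z).1 z.2
      refine ⟨⟨g * z * g⁻¹, hzg⟩, ?_, rfl⟩
      obtain ⟨j, hj⟩ := IsPGroup.iff_orderOf.1 R.2 ⟨z, hz⟩
      rw [Subgroup.orderOf_mk] at hj
      have hp' : IsPGroup r (zpowers (⟨g * z * g⁻¹, hzg⟩ : H)) := by
        refine IsPGroup.of_card (n := j) ?_
        rw [Nat.card_zpowers, ← Subgroup.orderOf_coe, ← hj, ← Subgroup.orderOf_coe z]
        exact (MulAut.conj g).orderOf_eq (z : G)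
      obtain ⟨R', hR'⟩ := hp'.exists_le_sylow
      have := Sylow.unique_of_normal R hRn
      exact Subsingleton.elim R' R ▸ hR' (mem_zpowers _)
  -- representatives in `S`
  have hrep : ∀ c : QClasses q G, ∃ x ∈ (S : Subgroup G), IsConj c.1.out x := fun c =>
    exists_mem_sylow_isConj S _ (out_isQElt c)
  choose x hxS hxc using hrep
  have hk' : ∀ c, k c = kPi σ ↥(centralizer ({x c} : Set G)) := fun c => by
    obtain ⟨g, hg⟩ := isConj_iff.1 (hxc c)
    exact kPi_congr (centralizerEquiv hg) σ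
  have hnotCH : ∃ y ∈ (S : Subgroup G), y ∉ CH := by
    by_contra! h
    have h1 : Nat.card (S : Subgroup G) ≤ Nat.card (Qc : Subgroup CH) := by
      obtain ⟨Q', hQ'⟩ := (S.2.comap_of_injective CH.subtype CH.subtype_injective).exists_le_sylow
      rw [← Nat.card_congr (subgroupOfEquivOfLe h).toEquiv, Qc.card_eq_multiplicity,
        ← Q'.card_eq_multiplicity]
      exact card_le_of_le hQ'
    rw [S.card_eq_multiplicity, ← hn] at h1
    have h2 : 2 * Nat.card (Qc : Subgroup CH) ≤ q * Nat.card (Qc : Subgroup CH) :=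
      Nat.mul_le_mul_right _ (Fact.out : q.Prime).two_le
    have h3 : 0 < Nat.card (Qc : Subgroup CH) := Nat.card_pos
    omega
  obtain ⟨y0, hy0S, hy0⟩ := hnotCH
  obtain ⟨r, hrσ, R, hRp, hRH, hRc, hRy, hRN⟩ := hnotle y0 hy0
  haveI := Fact.mk (hσ r hrσ)
  have hqr : q ≠ r := fun h => Finset.ne_of_mem_erase hrσ h.symm
  have hSab := (hab S).is_comm.comm
  have hScent : ∀ a ∈ (S : Subgroup G), ∀ b ∈ (S : Subgroup G),
      a ∈ centralizer ({b} : Set G) := fun a ha b hb =>
    mem_centralizer_singleton_iff.2 (congrArg Subtype.val (hSab ⟨a, ha⟩ ⟨b, hb⟩))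
  set F2 := Finset.univ.filter fun c : QClasses q G => x c ∈ CH with hF2
  have hin : ∀ c ∈ F2, (q + 1) * k c ≤ 2 * m := by
    intro c hc
    set C := centralizer ({x c} : Set G) with hC
    have hRC : R ≤ C := fun z hz => mem_centralizer_singleton_iff.2
      (mem_centralizer_iff.1 (Finset.mem_filter.1 hc).2 z (hRH hz))
    have hy0C : y0 ∈ C := hScent y0 hy0S (x c) (hxS c)
    have hfC : (Nat.card C).factorization r = (Nat.card G).factorization r := by
      refine le_antisymm
        ((Nat.factorization_le_iff_dvd Nat.card_pos.ne' Nat.card_pos.ne').2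
          (card_subgroup_dvd_card C) r) ?_
      rw [← (hσ r hrσ).pow_dvd_iff_le_factorization Nat.card_pos.ne', ← hRc]
      exact card_dvd_of_le hRC
    let P := Sylow.ofCard (R.subgroupOf C)
      (by rw [Nat.card_congr (subgroupOfEquivOfLe hRC).toEquiv, hRc, hfC])
    obtain ⟨j, hj⟩ := IsPGroup.iff_orderOf.1 S.2 ⟨y0, hy0S⟩
    rw [Subgroup.orderOf_mk] at hj
    have hPn : (⟨y0, hy0C⟩ : C) ∈ normalizer ((P : Subgroup C) : Set C) :=
      mem_normalizer_iff.2 fun z => mem_normalizer_iff.1 (hRN y0 (hSN hy0S)) z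
    have hPc : ¬ (P : Subgroup C) ≤ centralizer ({⟨y0, hy0C⟩} : Set C) := fun hle => hRy fun z hz =>
      mem_centralizer_singleton_iff.2 (congrArg Subtype.val
        (mem_centralizer_singleton_iff.1 (hle (show (⟨z, hRC hz⟩ : C) ∈ (P : Subgroup C) from hz))))
    have hb := kP_fused (q := q) (k := j) hqr P hPn (by rw [← Subgroup.orderOf_coe, hj]) hPc
    rw [P.card_eq_multiplicity, hfC] at hb
    rw [hk' c]
    calc (q + 1) * kPi σ C ≤ (q + 1) * (kP r C * piPart (σ.erase r) C) :=
          Nat.mul_le_mul_left _ (kPi_le_kP_piPart σ hσ r (hσ r hrσ))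
      _ = (q + 1) * kP r C * piPart (σ.erase r) C := (mul_assoc _ _ _).symm
      _ ≤ 2 * r ^ (Nat.card G).factorization r * piPart (σ.erase r) G :=
          Nat.mul_le_mul hb
            (piPart_subgroup_le _ (fun s hs => hσ s (Finset.mem_of_mem_erase hs)) _)
      _ = 2 * m := by rw [mul_assoc, ← piPart_mul σ hrσ]
  have hout : ∀ c, c ∉ F2 → (q + 1) * k c ≤ 1 * m := by
    intro c hc
    rw [one_mul, hk' c]
    have hxH : x c ∉ CH := fun h => hc (Finset.mem_filter.2 ⟨Finset.mem_univ _, h⟩)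
    obtain ⟨t, htσ, R', hR'p, hR'H, hR'c, hR'x, hR'N⟩ := hnotle (x c) hxH
    haveI := Fact.mk (hσ t htσ)
    set C := centralizer ({x c} : Set G) with hC
    obtain ⟨j, hj⟩ := IsPGroup.iff_orderOf.1 S.2 ⟨x c, hxS c⟩
    rw [Subgroup.orderOf_mk] at hj
    set A := zpowers (x c) with hA
    have hAK : A ≤ normalizer (K : Set G) := by rw [normalizer_eq_top]; exact le_top
    have hAc : (Nat.card A).Coprime (Nat.card K) := by
      rw [hA, Nat.card_zpowers, hj]
      exact Nat.Coprime.pow_left _ ((Fact.out : q.Prime).coprime_iff_not_dvd.2 hqK)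
    have hAs : Group.IsSolvable A ∨ Group.IsSolvable K := Or.inl inferInstance
    obtain ⟨U⟩ : Nonempty (Sylow t C) := inferInstance
    set U' := (U : Subgroup C).map C.subtype with hU'
    have hU'K : U' ≤ K := by
      rintro _ ⟨z, hz, rfl⟩
      refine hinK _ fun hd => ?_
      obtain ⟨i, hi⟩ := IsPGroup.iff_orderOf.1 U.2 ⟨z, hz⟩
      rw [Subgroup.orderOf_mk] at hi
      rw [Subgroup.coe_subtype, Subgroup.orderOf_coe, hi] at hd
      exact Finset.ne_of_mem_erase htσ
        ((Nat.prime_dvd_prime_iff_eq Fact.out (hσ t htσ)).1 ((Fact.out : q.Prime).dvd_of_dvd_pow hd)).symm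
    have hAU : A ≤ normalizer (U' : Set G) := by
      rw [zpowers_le]
      refine mem_normalizer_fintype ?_
      rintro _ ⟨z, hz, rfl⟩
      refine ⟨z, hz, ?_⟩
      have hzx := mem_centralizer_singleton_iff.1 z.2
      show (z : G) = x c * (z : G) * (x c)⁻¹
      rw [← hzx, mul_inv_cancel_right]
    obtain ⟨P1, hP1, hP1A⟩ := Cfsg.Agent.S0025.result A K hAK hAc hAs t U' hU'K (U.2.map _) hAU
    have hR'K : R' ≤ K := hR'H.trans hHK
    have hKf : (Nat.card K).factorization t = (Nat.card G).factorization t := by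
      refine le_antisymm
        ((Nat.factorization_le_iff_dvd Nat.card_pos.ne' Nat.card_pos.ne').2
          (card_subgroup_dvd_card K) t) ?_
      rw [← (hσ t htσ).pow_dvd_iff_le_factorization Nat.card_pos.ne', ← hR'c]
      exact card_dvd_of_le hR'K
    let P2 : Sylow t K := Sylow.ofCard (R'.subgroupOf K)
      (by rw [Nat.card_congr (subgroupOfEquivOfLe hR'K).toEquiv, hR'c, hKf])
    have hP2A : A ≤ normalizer ((P2 : Subgroup K).map K.subtype : Set G) := by
      show A ≤ normalizer (((R'.subgroupOf K).map K.subtype : Subgroup G) : Set G)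
      rw [map_subgroupOf_eq_of_le hR'K, zpowers_le]
      exact hR'N _ (hSN (hxS c))
    obtain ⟨g, hgA, hgP⟩ := Cfsg.Agent.S0024.result A K hAK hAc hAs t P1 P2 hP1A hP2A
    have hcard : Nat.card (U : Subgroup C) ≤ Nat.card (R' ⊓ C : Subgroup G) := by
      refine Nat.card_le_card_of_injective (fun z => ⟨(g : G) * ((z.1 : C) : G) * (g : G)⁻¹, ?_, ?_⟩)
        fun a b hab' => ?_
      · obtain ⟨w, hw, hwz⟩ := hP1 (show ((z.1 : C) : G) ∈ U' from ⟨z.1, z.2, rfl⟩)
        have h1 : MulAut.conj g • w ∈ MulAut.conj g • (P1 : Subgroup K) :=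
          Subgroup.smul_mem_pointwise_smul w (MulAut.conj g) (P1 : Subgroup K) hw
        rw [show MulAut.conj g • (P1 : Subgroup K) = (P2 : Subgroup K) from
          congrArg Sylow.toSubgroup hgP] at h1
        rw [← hwz]
        exact h1
      · exact C.mul_mem (C.mul_mem (mem_centralizer_singleton_iff.2
          (mem_centralizer_iff.1 hgA (x c) (mem_zpowers _)).symm) z.1.2)
          (C.inv_mem (mem_centralizer_singleton_iff.2
          (mem_centralizer_iff.1 hgA (x c) (mem_zpowers _)).symm))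
      · have := congrArg Subtype.val hab'
        exact Subtype.ext (Subtype.ext (mul_left_cancel (mul_right_cancel this)))
    have hfix := succ_mul_card_fixed_le (q := q) R' (hR'N _ (hSN (hxS c))) hj
      (fun h => hqH (h.trans (card_dvd_of_le hR'H))) hR'x
    rw [hR'c] at hfix
    calc (q + 1) * kPi σ C ≤ (q + 1) * piPart σ C := Nat.mul_le_mul_left _ (kPi_le_piPart σ hσ _)
      _ = (q + 1) * t ^ (Nat.card C).factorization t * piPart (σ.erase t) C := by
          rw [piPart_mul σ htσ, mul_assoc]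
      _ ≤ t ^ (Nat.card G).factorization t * piPart (σ.erase t) G := by
          refine Nat.mul_le_mul ?_
            (piPart_subgroup_le _ (fun s hs => hσ s (Finset.mem_of_mem_erase hs)) _)
          rw [← U.card_eq_multiplicity]
          exact (Nat.mul_le_mul_left _ hcard).trans hfix
      _ = m := (piPart_mul σ htσ).symm
  have hF2q : q * F2.card ≤ n := by
    refine (Nat.mul_le_mul_left q ?_).trans hQc
    have hle := card_le_of_reps ((S : Subgroup G) ⊓ CH) F2
      fun c hc => ⟨x c, ⟨hxS c, (Finset.mem_filter.1 hc).2⟩, hxc c⟩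
    refine hle.trans ?_
    obtain ⟨Q', hQ'⟩ := (((S.2 : IsPGroup q (S : Subgroup G)).to_le
      (inf_le_left : (S : Subgroup G) ⊓ CH ≤ S)).comap_of_injective CH.subtype
      CH.subtype_injective).exists_le_sylow
    rw [← Nat.card_congr (subgroupOfEquivOfLe (inf_le_right : (S : Subgroup G) ⊓ CH ≤ CH)).toEquiv,
      Qc.card_eq_multiplicity, ← Q'.card_eq_multiplicity]
    exact card_le_of_le hQ'
  have h1 := sum_split k F2 (q + 1) 2 1 m hin hout
  rw [hkq] at h1
  refine false_of_bound (show 0 < q + 1 by omega) ((Nat.mul_le_mul_left _ hsum).trans h1) ?_ hmany'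
  have hF2K : F2.card ≤ kP q G := hkq ▸ Finset.card_le_univ F2
  rw [one_mul, show 2 * F2.card + (kP q G - F2.card) = kP q G + F2.card by omega]
  nlinarith [Nat.mul_le_mul_left q hKn, Nat.mul_le_mul_right (kP q G + F2.card) (show p ≤ q by omega)]

/-- A group with more than `|G|_π / p` classes of `π`-elements, `p` at most every prime in `π`, has
a nilpotent Hall `π`-subgroup. -/
theorem exists_nilpotent_hall (π : Finset ℕ) : (∀ r ∈ π, r.Prime) →
    ∀ (G : Type u) [Group G] [Finite G] (p : ℕ), 2 ≤ p → (∀ r ∈ π, p ≤ r) →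
      piPart π G < p * kPi π G →
        ∃ H : Subgroup G, Nat.card H = piPart π G ∧ Group.IsNilpotent H := by
  classical
  induction π using Finset.strongInduction with
  | H π ih =>
    intro hπ G _ _ p hp2 hp hmany
    rcases π.eq_empty_or_nonempty with rfl | hne
    · exact ⟨⊥, by simp [piPart], inferInstance⟩
    · have := Fact.mk (hπ _ (π.max'_mem hne))
      exact step π hπ (π.max'_mem hne) (fun r hr => Finset.le_max' π r hr) p hp2 hp
        (fun D hD => ih _ (Finset.erase_ssubset (π.max'_mem hne))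
          (fun r hr => hπ r (Finset.mem_of_mem_erase hr)) ↥D p hp2
          (fun r hr => hp r (Finset.mem_of_mem_erase hr)) hD) hmany

end Cfsg.Agent.PiClasses
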